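import Cfsg.Agent.H63.ItoThree.Component
import Cfsg.Agent.H63.RankThreeGen.Tri

/-!
# Three class sizes: the setting
-/

set_option autoImplicit false

namespace Cfsg.Agent.H63.ItoThree

open RankThree

universe u

/-- A non-solvable group with the class sizes `1 < n₂ < n₁`. -/
structure Three (G : Type u) [Group G] (n₁ n₂ : ℕ) : Prop where
  h12 : n₂ < n₁
  h2 : 1 < n₂
  types : ∀ x : G, (C x).index = 1 ∨ (C x).index = n₂ ∨ (C x).index = n₁
  ex₁ : ∃ x : G, (C x).index = n₁
  ex₂ : ∃ x : G, (C x).index = n₂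
  hns : ¬ Group.IsSolvable G

variable {G : Type u} [Group G] [Finite G]

/-- The centralisers of two elements are conjugate. -/
def ConjC (x x' : G) : Prop := ∃ h : G, C (h * x * h⁻¹) = C x'

/-- The central elements of order prime to `q` of a subgroup. -/
def zreg (q : ℕ) (K : Subgroup G) : Subgroup G where
  carrier := {g | g ∈ K ∧ (orderOf g).Coprime q ∧ ∀ c ∈ K, Commute g c}
  one_mem' := ⟨K.one_mem, by simp, fun _ _ => Commute.one_left _⟩
  mul_mem' := fun ha hb => ⟨K.mul_mem ha.1 hb.1,
    Nat.Coprime.coprime_dvd_left (ha.2.2 _ hb.1).orderOf_mul_dvd_mul_orderOf (ha.2.1.mul_left hb.2.1),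
    fun c hc => (ha.2.2 c hc).mul_left (hb.2.2 c hc)⟩
  inv_mem' := fun ha => ⟨K.inv_mem ha.1, by rw [orderOf_inv]; exact ha.2.1,
    fun c hc => (ha.2.2 c hc).inv_left⟩

omit [Finite G] in
theorem mem_zreg {q : ℕ} {K : Subgroup G} {g : G} :
    g ∈ zreg q K ↔ g ∈ K ∧ (orderOf g).Coprime q ∧ ∀ c ∈ K, Commute g c := Iff.rfl

/-- A subgroup all of whose elements have order prime to `q` has order prime to `q`. -/
theorem coprime_card_of_forall {q : ℕ} [hq : Fact q.Prime] {W : Subgroup G}
    (h : ∀ w ∈ W, (orderOf w).Coprime q) : (Nat.card W).Coprime q := by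
  rw [Nat.coprime_comm, hq.out.coprime_iff_not_dvd]
  intro hd
  obtain ⟨w, hw⟩ := exists_prime_orderOf_dvd_card' (G := W) q hd
  have := h w w.2
  rw [Subgroup.orderOf_coe, hw, Nat.coprime_self] at this
  exact hq.out.ne_one this

/-- The index of a component modulo the centre is determined by its order. -/
theorem Comp.relIndex_eq {q : ℕ} {R W R' W' : Subgroup G} (hR : Comp q R W) (hR' : Comp q R' W')
    (e : Nat.card R = Nat.card R') :
    (Subgroup.center G).relIndex R = (Subgroup.center G).relIndex R' := by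
  have key : ∀ R : Subgroup G,
      Nat.card ↥(Subgroup.center G ⊓ R) * (Subgroup.center G).relIndex R = Nat.card R := fun R => by
    rw [← Subgroup.inf_relIndex_right, ← Subgroup.relIndex_bot_left (Subgroup.center G ⊓ R),
      Subgroup.relIndex_mul_relIndex ⊥ (Subgroup.center G ⊓ R) R bot_le inf_le_right,
      Subgroup.relIndex_bot_left]
  have e2 : Subgroup.center G ⊓ R = Subgroup.center G ⊓ R' := le_antisymm
    (fun z hz => ⟨hz.1, hR'.zmem z hz.1 (hR.pe z hz.2)⟩)
    fun z hz => ⟨hz.1, hR.zmem z hz.1 (hR'.pe z hz.2)⟩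
  refine Nat.eq_of_mul_eq_mul_left (Nat.card_pos : 0 < Nat.card ↥(Subgroup.center G ⊓ R)) ?_
  rw [key R]
  conv_rhs => rw [e2, key R', ← e]

namespace Three

variable {n₁ n₂ : ℕ} (h : Three G n₁ n₂)
include h

omit [Finite G] in
theorem nc_index {x : G} (hx : x ∉ Subgroup.center G) : (C x).index = n₂ ∨ (C x).index = n₁ :=
  (h.types x).resolve_left fun e => hx (index_C_eq_one.1 e)

omit [Finite G] in
theorem nc_of_index₁ {x : G} (hx : (C x).index = n₁) : x ∉ Subgroup.center G := fun e => by
  have := index_C_eq_one.2 e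
  have := h.h12
  have := h.h2
  omega

omit [Finite G] in
theorem nc_of_index₂ {x : G} (hx : (C x).index = n₂) : x ∉ Subgroup.center G := fun e => by
  have := index_C_eq_one.2 e
  have := h.h2
  omega

omit h in
theorem cc_eq {g g' : G} (e : (C g).index = (C g').index) : cc g = cc g' :=
  Nat.eq_of_mul_eq_mul_right (Nat.pos_of_ne_zero (C g').index_ne_zero_of_finite)
    (by rw [index_mul_cc, ← e, index_mul_cc])

theorem regular_index₁ {p : ℕ} (hp : p.Prime) :
    ∃ u : G, (orderOf u).Coprime p ∧ (C u).index = n₁ := by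
  by_contra hno
  push Not at hno
  exact h.hns (Tri.solvable_of_proper hp (k := n₂) fun u hu =>
    (h.types u).imp id fun e => e.resolve_right (hno u hu))

theorem regular_index₂ {p : ℕ} (hp : p.Prime) :
    ∃ u : G, (orderOf u).Coprime p ∧ (C u).index = n₂ := by
  by_contra hno
  push Not at hno
  exact h.hns (Tri.solvable_of_proper hp (k := n₁) fun u hu =>
    (h.types u).imp id fun e => e.resolve_left (hno u hu))

theorem regular_same {p : ℕ} (hp : p.Prime) {x : G} (hx : x ∉ Subgroup.center G) :
    ∃ u : G, (orderOf u).Coprime p ∧ (C u).index = (C x).index := by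
  rcases h.nc_index hx with e | e
  · exact e ▸ h.regular_index₂ hp
  · exact e ▸ h.regular_index₁ hp

/-- The conjugates of a proper centraliser do not cover the group. -/
theorem not_cover {u : G} (hu : u ∉ Subgroup.center G) :
    ∃ g : G, ∀ a : G, a⁻¹ * g * a ∉ C u := by
  by_contra hno
  push Not at hno
  exact hu (index_C_eq_one.1 (Subgroup.index_eq_one.2 (H86.eq_top_of_conjugates_cover (C u) hno)))

end Three

end Cfsg.Agent.H63.ItoThree
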