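import Cfsg.Agent.H63.ItoThree.Basic
import Cfsg.Agent.H21.ThompsonFpf

/-!
# Three class sizes without inclusions between centralisers
-/

set_option autoImplicit false

namespace Cfsg.Agent.H63.ItoThree

open RankThree

universe u

variable {G : Type u} [Group G] [Finite G] {n₁ n₂ : ℕ}

/-- No centraliser of a non-central element is contained in another one. -/
def IsF (G : Type u) [Group G] : Prop :=
  ∀ x y : G, x ∉ Subgroup.center G → y ∉ Subgroup.center G → C x ≤ C y → C x = C y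

namespace Three

variable (h : Three G n₁ n₂) (hF : IsF G)
include h hF

omit [Finite G] h in
theorem part_eq {x y : G} (hy : y ∈ Subgroup.zpowers x) (hyZ : y ∉ Subgroup.center G) :
    C y = C x :=
  (hF x y (fun e => hyZ (mem_of_mem_zpowers hy e)) hyZ (C_le_of_mem_zpowers hy)).symm

omit h in
theorem central_reg {x w : G} {q : ℕ} (hx : x ∉ Subgroup.center G) (hxq : PE q x)
    (hw : w ∈ C x) (hwq : (orderOf w).Coprime q) : C x ≤ C w := by
  have hxw : Commute x w := (mem_C.1 hw).symm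
  have hc := coprime_pe hxq hwq
  have hle := C_mul_le hxw hc
  have hne : x * w ∉ Subgroup.center G := fun e => hx (index_C_eq_one.1
    (Subgroup.index_eq_one.2 (top_le_iff.1 ((C_of_center e).ge.trans hle))))
  rw [← hF _ _ hne hx hle, hxw.eq]
  exact C_mul_le hxw.symm hc.symm

theorem other {x : G} {q : ℕ} (hq : q.Prime) (hx : x ∉ Subgroup.center G) (hxq : PE q x) :
    ∃ (r : ℕ) (w : G), r.Prime ∧ r ≠ q ∧ PE r w ∧ w ∉ Subgroup.center G ∧ C w = C x := by
  by_contra hno
  obtain ⟨y, hyq, hyi⟩ := h.regular_same hq hx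
  have hyZ : y ∉ Subgroup.center G := fun e => hx (index_C_eq_one.1 (hyi ▸ index_C_eq_one.2 e))
  obtain ⟨r, hr, w, hw, hwr, hwZ⟩ := exists_prime_part hyZ
  haveI := Fact.mk hr
  have hrq : r ≠ q := by
    rintro rfl
    exact hwZ ((eq_one_of_pe_coprime hwr
      (hyq.coprime_dvd_left (orderOf_dvd_of_mem_zpowers hw))) ▸ one_mem _)
  have hlt : qe r (C x) < qe r (C w) := by
    refine qe_lt (fun g hg hgr => ?_) (center_le_C w) (self_mem_C w) hwr hwZ
    by_contra hgZ
    refine hno ⟨r, g, hr, hrq, hgr, hgZ, ?_⟩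
    exact (hF x g hx hgZ (central_reg hF hx hxq hg (pe_coprime hr hq hrq hgr))).symm
  have e : cc w = cc x := by rw [cc, part_eq hF hw hwZ]; exact cc_eq hyi
  exact hlt.ne (by rw [qe, qe]; exact congrArg (Nat.factorization · r) e.symm)

theorem C_le_mem {x a : G} (hx : x ∉ Subgroup.center G) (ha : a ∈ C x) : C x ≤ C a := by
  obtain ⟨q, hq, x', hx', hxq, hxZ⟩ := exists_prime_part hx
  rw [← part_eq hF hx' hxZ] at ha ⊢
  obtain ⟨r, w, hr, hne, hwr, hwZ, hw⟩ := h.other hF hq hxZ hxq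
  obtain ⟨a₁, a₂, h1, h2, h12, h1q, h2q⟩ := parts hq a
  have k2 : C x' ≤ C a₂ := central_reg hF hxZ hxq (mem_of_mem_zpowers h2 ha) h2q
  have k1 : C x' ≤ C a₁ := hw ▸ central_reg hF hwZ hwr
    (hw.symm ▸ mem_of_mem_zpowers h1 ha) (pe_coprime hq hr hne.symm h1q)
  exact fun g hg => mem_C.2 (h12 ▸ (mem_C.1 (k1 hg)).mul_right (mem_C.1 (k2 hg)))

theorem comm_C {x a b : G} (hx : x ∉ Subgroup.center G) (ha : a ∈ C x) (hb : b ∈ C x) :
    Commute a b := mem_C.1 (h.C_le_mem hF hx hb ha)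

theorem C_eq_of_mem {x a : G} (hx : x ∉ Subgroup.center G) (ha : a ∈ C x)
    (haZ : a ∉ Subgroup.center G) : C a = C x :=
  (hF x a hx haZ (h.C_le_mem hF hx ha)).symm

theorem two_primes {x : G} (hx : x ∉ Subgroup.center G) :
    ∃ (q r : ℕ) (a b : G), q.Prime ∧ r.Prime ∧ q ≠ r ∧ a ∈ C x ∧ PE q a ∧
      a ∉ Subgroup.center G ∧ b ∈ C x ∧ PE r b ∧ b ∉ Subgroup.center G := by
  obtain ⟨q, hq, a, ha, haq, haZ⟩ := exists_prime_part hx
  obtain ⟨r, b, hr, hne, hbr, hbZ, hb⟩ := h.other hF hq haZ haq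
  have e := part_eq hF ha haZ
  exact ⟨q, r, a, b, hq, hr, hne.symm, e ▸ self_mem_C a, haq, haZ, (hb.trans e) ▸ self_mem_C b,
    hbr, hbZ⟩

/-- The Sylow subgroup of a centraliser is a component. -/
theorem comp {x a : G} {q : ℕ} [hq : Fact q.Prime] (hx : x ∉ Subgroup.center G) (ha : a ∈ C x)
    (haq : PE q a) (haZ : a ∉ Subgroup.center G) :
    Comp q (zq q hq.out (C x)) (zreg q (C x)) where
  ab a ha b hb := ha.2.2 b hb.1
  pe a ha := ha.2.1
  zmem z hz hzq := ⟨center_le_C x hz, hzq, fun c _ => (Subgroup.mem_center_iff.1 hz c).symm⟩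
  nc := ⟨a, ⟨ha, haq, fun c hc => h.comm_C hF hx ha hc⟩, haZ⟩
  cl b hb hbZ g hg hgb := by
    have hgC : g ∈ C x := h.C_eq_of_mem hF hx hb.1 hbZ ▸ hgb
    exact ⟨hgC, hg, fun c hc => h.comm_C hF hx hgC hc⟩
  cop := coprime_card_of_forall fun w hw => hw.2.1
  wnorm g hg w hw := by
    have haR : a ∈ zq q hq.out (C x) := ⟨ha, haq, fun c hc => h.comm_C hF hx ha hc⟩
    have e : C (g * a * g⁻¹) = C x := h.C_eq_of_mem hF hx
      ((Subgroup.mem_normalizer_iff.1 hg a).1 haR).1 (fun e => haZ (conj_mem_center_iff.1 e))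
    have hgw : g * w * g⁻¹ ∈ C x := by
      rw [← e, conj_mem_C_iff, h.C_eq_of_mem hF hx ha haZ]
      exact hw.1
    exact ⟨hgw, by rw [orderOf_conj']; exact hw.2.1, fun c hc => h.comm_C hF hx hgw hc⟩
  wnc := by
    obtain ⟨r, b, hr, hne, hbr, hbZ, hb⟩ := h.other hF hq.out haZ haq
    have hbC : b ∈ C x := by
      rw [← h.C_eq_of_mem hF hx ha haZ, ← hb]
      exact self_mem_C b
    exact ⟨b, ⟨hbC, pe_coprime hr hq.out hne hbr, fun c hc => h.comm_C hF hx hbC hc⟩, hbZ⟩
  fix g _ hgq hgR w hw hwg := by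
    by_contra hwZ
    have hgC : g ∈ C x := h.C_eq_of_mem hF hx hw.1 hwZ ▸ mem_C.2 (mem_C.1 hwg).symm
    exact hgR ⟨hgC, hgq, fun c hc => h.comm_C hF hx hgC hc⟩

theorem card_zq {x : G} (q : ℕ) [hq : Fact q.Prime] (hx : x ∉ Subgroup.center G) :
    Nat.card (zq q hq.out (C x)) = q ^ qe q (C x) :=
  card_eq_qe isPGroup_zq zq_le fun _ hg hgq => ⟨hg, hgq, fun _ hc => h.comm_C hF hx hg hc⟩

theorem exists_q {x x' a : G} {q : ℕ} [hq : Fact q.Prime]
    (ha : a ∈ C x) (haq : PE q a) (haZ : a ∉ Subgroup.center G)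
    (e : (C x).index = (C x').index) :
    ∃ b ∈ C x', PE q b ∧ b ∉ Subgroup.center G := by
  by_contra hno
  push Not at hno
  have hlt := qe_lt (r := q) (K := C x') (fun g hg hgq => hno g hg hgq) (center_le_C x) ha haq haZ
  exact hlt.ne (congrArg (Nat.factorization · q) (cc_eq e).symm)

theorem conjC_of_cjs {x x' a : G} {q : ℕ} [hq : Fact q.Prime] (hx : x ∉ Subgroup.center G)
    (hx' : x' ∉ Subgroup.center G) (ha : a ∈ C x) (haq : PE q a) (haZ : a ∉ Subgroup.center G)
    {g : G} (hg : cjs g (zq q hq.out (C x)) = zq q hq.out (C x')) : ConjC x x' := by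
  refine ⟨g, ?_⟩
  have hga : g * a * g⁻¹ ∈ zq q hq.out (C x') :=
    hg ▸ conj_mem_cjs.2 ⟨ha, haq, fun c hc => h.comm_C hF hx ha hc⟩
  rw [← h.C_eq_of_mem hF hx' hga.1 fun e => haZ (conj_mem_center_iff.1 e), C_conj, C_conj,
    h.C_eq_of_mem hF hx ha haZ]

theorem conjC_of_same {x x' : G} (hx : x ∉ Subgroup.center G) (hx' : x' ∉ Subgroup.center G)
    (e : (C x).index = (C x').index) : ConjC x x' := by
  by_contra hno
  have key : ∀ (q : ℕ) [hq : Fact q.Prime] (a : G), a ∈ C x → PE q a → a ∉ Subgroup.center G →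
      (Subgroup.center G).relIndex (zq q hq.out (C x)) = q ∧
        ∃ g ∈ Subgroup.normalizer (zq q hq.out (C x) : Set G), PE q g ∧
          g ∉ zq q hq.out (C x) := by
    intro q hq a ha haq haZ
    obtain ⟨b, hb, hbq, hbZ⟩ := h.exists_q hF ha haq haZ e
    have hR := h.comp hF hx ha haq haZ
    have hR' := h.comp hF hx' hb hbq hbZ
    have hcard : Nat.card (zq q hq.out (C x)) = Nat.card (zq q hq.out (C x')) := by
      rw [h.card_zq hF q hx, h.card_zq hF q hx', qe, qe]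
      exact congrArg (fun n => q ^ Nat.factorization n q) (cc_eq e)
    constructor
    · by_contra hl
      obtain ⟨g, hg⟩ := hR.exists_conj hR' hl (hR.relIndex_eq hR' hcard ▸ hl)
      exact hno (h.conjC_of_cjs hF hx hx' ha haq haZ hg)
    · obtain ⟨T, hT⟩ := (isPGroup_zq (q := q) (K := C x)).exists_le_sylow
      obtain ⟨T', hT'⟩ := (isPGroup_zq (q := q) (K := C x')).exists_le_sylow
      set R := zq q hq.out (C x)
      by_cases hTR : (T : Subgroup G) ≤ R
      · exfalso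
        obtain ⟨g, hg⟩ := MulAction.exists_smul_eq G T T'
        have hTT : (T' : Subgroup G) = zq q hq.out (C x') := by
          refine (Subgroup.eq_of_le_of_card_ge hT' ?_).symm
          rw [← hcard, le_antisymm hT hTR, Sylow.card_eq_multiplicity, Sylow.card_eq_multiplicity]
        refine hno (h.conjC_of_cjs hF hx hx' ha haq haZ (g := g) ?_)
        rw [← hTT, ← hg]
        show cjs g R = cjs g T
        rw [le_antisymm hT hTR]
      · haveI := T.2.isNilpotent
        obtain ⟨g, hg, hgR⟩ := SetLike.exists_of_lt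
          (Group.normalizerCondition_of_isNilpotent (R.subgroupOf (T : Subgroup G))
            (lt_top_iff_ne_top.2 fun e => hTR (Subgroup.subgroupOf_eq_top.1 e)))
        refine ⟨g, Subgroup.mem_normalizer_iff.2 fun y => ?_, pe_of_mem T.2 g.2,
          fun h' => hgR (Subgroup.mem_subgroupOf.2 h')⟩
        have hn := Subgroup.mem_normalizer_iff.1 hg
        constructor
        · exact fun hy => Subgroup.mem_subgroupOf.1
            ((hn ⟨y, hT hy⟩).1 (Subgroup.mem_subgroupOf.2 hy))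
        · intro hy
          have hyT : y ∈ (T : Subgroup G) := by
            have := mul_mem (mul_mem (inv_mem g.2) (hT hy)) g.2
            simpa [mul_assoc] using this
          exact Subgroup.mem_subgroupOf.1 ((hn ⟨y, hyT⟩).2 (Subgroup.mem_subgroupOf.2 hy))
  obtain ⟨q, r, a, b, hq, hr, hne, ha, haq, haZ, hb, hbr, hbZ⟩ := h.two_primes hF hx
  haveI := Fact.mk hq
  haveI := Fact.mk hr
  obtain ⟨hlA, g, hgN, hgq, hgA⟩ := key q a ha haq haZ
  obtain ⟨hlB, k, hkN, hkr, hkB⟩ := key r b hb hbr hbZ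
  have norm : ∀ (q : ℕ) [hq : Fact q.Prime] (a : G), a ∈ C x → PE q a → a ∉ Subgroup.center G →
      ∀ g ∈ Subgroup.normalizer (zq q hq.out (C x) : Set G), ∀ (r : ℕ) [hr : Fact r.Prime],
      g ∈ Subgroup.normalizer (zq r hr.out (C x) : Set G) := by
    intro q hq a ha haq haZ g hg r hr
    have haR : a ∈ zq q hq.out (C x) := ⟨ha, haq, fun c hc => h.comm_C hF hx ha hc⟩
    have e : C (g * a * g⁻¹) = C x := h.C_eq_of_mem hF hx
      ((Subgroup.mem_normalizer_iff.1 hg a).1 haR).1 (fun e => haZ (conj_mem_center_iff.1 e))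
    have hmem : ∀ w, w ∈ C x ↔ g * w * g⁻¹ ∈ C x := fun w => by
      conv_rhs => rw [← e, conj_mem_C_iff, h.C_eq_of_mem hF hx ha haZ]
    refine Subgroup.mem_normalizer_iff.2 fun w => ⟨fun hw => ?_, fun hw => ?_⟩
    · exact ⟨(hmem w).1 hw.1, pe_conj hw.2.1 g,
        fun c hc => h.comm_C hF hx ((hmem w).1 hw.1) hc⟩
    · exact ⟨(hmem w).2 hw.1, by simpa [mul_assoc] using pe_conj hw.2.1 g⁻¹,
        fun c hc => h.comm_C hF hx ((hmem w).2 hw.1) hc⟩
  have hA : ∀ g, PE q g → g ∈ C x → g ∈ zq q hq (C x) := fun g hg hgC =>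
    ⟨hgC, hg, fun c hc => h.comm_C hF hx hgC hc⟩
  have hB : ∀ g, PE r g → g ∈ C x → g ∈ zq r hr (C x) := fun g hg hgC =>
    ⟨hgC, hg, fun c hc => h.comm_C hF hx hgC hc⟩
  have ea := h.C_eq_of_mem hF hx ha haZ
  have eb := h.C_eq_of_mem hF hx hb hbZ
  exact two_lines hne (A := zq q hq (C x)) (B := zq r hr (C x)) (fun _ h => h.2.1) (fun _ h => h.2.1)
    hlA hlB (hA a haq ha) haZ (hB b hbr hb) hbZ (ea.symm ▸ zq_le) (eb.symm ▸ zq_le)
    (fun g _ hg hgv => hA g hg (eb ▸ hgv)) (fun g _ hg hgu => hB g hg (ea ▸ hgu))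
    hgN (norm q a ha haq haZ g hgN r) hgq (fun e => hgA (hA g hgq (ea ▸ e)))
    (norm r b hb hbr hbZ k hkN q) hkN hkr (fun e => hkB (hB k hkr (eb ▸ e)))

theorem exists_selfNormalizing : ∃ x : G, x ∉ Subgroup.center G ∧
    Subgroup.normalizer (C x : Set G) ≤ C x := by
  classical
  obtain ⟨x₁, hx₁⟩ := h.ex₁
  obtain ⟨x₂, hx₂⟩ := h.ex₂
  by_contra hno
  push Not at hno
  set Z := Subgroup.center G
  let N : G → Subgroup G := fun x => Subgroup.normalizer (C x : Set G)
  let S : G → Set G := fun x =>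
    Set.range fun p : (G ⧸ N x) × {w : C x // (w : G) ∉ Z} => p.1.out * p.2.1.1 * p.1.out⁻¹
  have hcover : ∀ g : G, g ∉ Z → g ∈ S x₁ ∪ S x₂ := by
    intro g hg
    have key : ∀ x : G, x ∉ Z → (C x).index = (C g).index → g ∈ S x := by
      intro x hx hix
      obtain ⟨k, hk⟩ := h.conjC_of_same hF hx hg hix
      have hgk : k⁻¹ * g * k ∈ C x := by
        rw [← conj_mem_C_iff (g := k), hk]
        simpa [mul_assoc] using self_mem_C g
      have hn : (QuotientGroup.mk k : G ⧸ N x).out⁻¹ * k ∈ N x :=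
        QuotientGroup.eq.1 (QuotientGroup.out_eq' _)
      set o := (QuotientGroup.mk k : G ⧸ N x).out
      have hw : o⁻¹ * g * o ∈ C x := by
        have := (Subgroup.mem_normalizer_iff.1 hn _).1 hgk
        simpa [mul_assoc] using this
      refine ⟨(QuotientGroup.mk k, ⟨⟨o⁻¹ * g * o, hw⟩, fun e => hg ?_⟩), ?_⟩
      · have := conj_mem_center_iff (g := o⁻¹) (x := g)
        exact this.1 (by simpa using e)
      · show o * (o⁻¹ * g * o) * o⁻¹ = g
        group
    rcases h.nc_index hg with e | e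
    · exact Or.inr (key x₂ (h.nc_of_index₂ hx₂) (hx₂.trans e.symm))
    · exact Or.inl (key x₁ (h.nc_of_index₁ hx₁) (hx₁.trans e.symm))
  have hS : ∀ x : G, x ∉ Z → (S x).ncard ≤ (N x).index * Nat.card {w : C x // (w : G) ∉ Z} ∧
      2 * ((N x).index * (Nat.card {w : C x // (w : G) ∉ Z} + Nat.card Z)) ≤ Nat.card G := by
    intro x hx
    refine ⟨?_, ?_⟩
    · refine (Finite.card_range_le _).trans_eq ?_
      rw [Nat.card_prod, Subgroup.index_eq_card]
    have h1 : Nat.card {w : C x // (w : G) ∉ Z} + Nat.card Z = cc x := by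
      rw [cc, ← Nat.card_congr (Subgroup.subgroupOfEquivOfLe (center_le_C x)).toEquiv,
        add_comm, ← Nat.card_sum]
      exact Nat.card_congr (Equiv.sumCompl (fun w : C x => (w : G) ∈ Z))
    have h2 : 2 * cc x ≤ Nat.card (N x) := by
      obtain ⟨m, hm⟩ := Subgroup.card_dvd_of_le (Subgroup.le_normalizer : C x ≤ N x)
      have hm1 : m ≠ 1 := fun e => hno x hx
        (Subgroup.eq_of_le_of_card_ge Subgroup.le_normalizer (by rw [hm, e, mul_one])).ge
      have hm0 : m ≠ 0 := fun e => Nat.card_pos.ne' (hm.trans (by rw [e, mul_zero]))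
      rw [hm, mul_comm, cc]
      exact Nat.mul_le_mul_left _ (by omega)
    rw [h1, ← (N x).index_mul_card, mul_left_comm]
    exact Nat.mul_le_mul_left _ h2
  obtain ⟨a1, b1⟩ := hS x₁ (h.nc_of_index₁ hx₁)
  obtain ⟨a2, b2⟩ := hS x₂ (h.nc_of_index₂ hx₂)
  have hsub : (Z : Set G)ᶜ.ncard ≤ (S x₁).ncard + (S x₂).ncard :=
    (Set.ncard_le_ncard (fun g hg => hcover g hg) (Set.toFinite _)).trans (Set.ncard_union_le _ _)
  have hZc : Nat.card Z + (Z : Set G)ᶜ.ncard = Nat.card G := by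
    rw [← Set.ncard_add_ncard_compl (Z : Set G), ← Nat.card_coe_set_eq]
    rfl
  have i1 : 1 ≤ (N x₁).index := Nat.one_le_iff_ne_zero.2 Subgroup.index_ne_zero_of_finite
  have i2 : 1 ≤ (N x₂).index := Nat.one_le_iff_ne_zero.2 Subgroup.index_ne_zero_of_finite
  have hz0 : 0 < Nat.card Z := Nat.card_pos
  nlinarith [Nat.mul_le_mul_right (Nat.card Z) i1, Nat.mul_le_mul_right (Nat.card Z) i2]

theorem false_of_F : False := by
  classical
  obtain ⟨x, hx, hN⟩ := h.exists_selfNormalizing hF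
  set Z := Subgroup.center G
  -- the complements
  have hK : ∀ (q : ℕ), q.Prime → ∀ a ∈ C x, PE q a → a ∉ Z →
      ∃ K : Subgroup G, K.Normal ∧ (Nat.card K).Coprime q ∧ commutator G ≤ K ∧
        ∀ g, ∃ b ∈ C x, g * b⁻¹ ∈ K := by
    intro q hq a ha haq haZ
    haveI := Fact.mk hq
    obtain ⟨T, hT⟩ := (isPGroup_zq (q := q) (K := C x)).exists_le_sylow
    set R := zq q hq (C x)
    have haR : a ∈ R := ⟨ha, haq, fun c hc => h.comm_C hF hx ha hc⟩
    have hNR : Subgroup.normalizer (R : Set G) ≤ C x := by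
      intro g hg
      refine hN (Subgroup.mem_normalizer_iff.2 fun w => ?_)
      have e : C (g * a * g⁻¹) = C x := h.C_eq_of_mem hF hx
        ((Subgroup.mem_normalizer_iff.1 hg a).1 haR).1 (fun e => haZ (conj_mem_center_iff.1 e))
      show w ∈ C x ↔ g * w * g⁻¹ ∈ C x
      conv_rhs => rw [← e, conj_mem_C_iff, h.C_eq_of_mem hF hx ha haZ]
    have hTR : (T : Subgroup G) = R := by
      refine le_antisymm ?_ hT
      by_contra hle
      haveI := T.2.isNilpotent
      obtain ⟨g, hg, hgR⟩ := SetLike.exists_of_lt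
        (Group.normalizerCondition_of_isNilpotent (R.subgroupOf (T : Subgroup G))
          (lt_top_iff_ne_top.2 fun e => hle (Subgroup.subgroupOf_eq_top.1 e)))
      have hn := Subgroup.mem_normalizer_iff.1 hg
      have hgN : (g : G) ∈ Subgroup.normalizer (R : Set G) := by
        refine Subgroup.mem_normalizer_iff.2 fun y => ⟨fun hy => Subgroup.mem_subgroupOf.1
          ((hn ⟨y, hT hy⟩).1 (Subgroup.mem_subgroupOf.2 hy)), fun hy => ?_⟩
        have hyT : y ∈ (T : Subgroup G) := by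
          have := mul_mem (mul_mem (inv_mem g.2) (hT hy)) g.2
          simpa [mul_assoc] using this
        exact Subgroup.mem_subgroupOf.1 ((hn ⟨y, hyT⟩).2 (Subgroup.mem_subgroupOf.2 hy))
      exact hgR (Subgroup.mem_subgroupOf.2 ⟨hNR hgN, pe_of_mem T.2 g.2,
        fun c hc => h.comm_C hF hx (hNR hgN) hc⟩)
    have hP : Subgroup.normalizer ((T : Subgroup G) : Set G) ≤
        Subgroup.centralizer ((T : Subgroup G) : Set G) := by
      rw [hTR]
      exact fun g hg => Subgroup.mem_centralizer_iff.2 fun t ht =>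
        (ht.2.2 g (hNR hg)).eq
    refine ⟨(MonoidHom.transferSylow T hP).ker, inferInstance, ?_,
      Subgroup.commutator_le.2 fun u _ v _ => ?_, fun g => ?_⟩
    · rw [Nat.coprime_comm, hq.coprime_iff_not_dvd]
      exact MonoidHom.not_dvd_card_ker_transferSylow T hP
    · rw [MonoidHom.mem_ker, map_commutatorElement, commutatorElement_eq_one_iff_mul_comm]
      set a := MonoidHom.transferSylow T hP u
      set b := MonoidHom.transferSylow T hP v
      exact Subtype.ext (((hTR ▸ a.2 : (a : G) ∈ R)).2.2 b ((hTR ▸ b.2 : (b : G) ∈ R)).1).eq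
    · obtain ⟨⟨k, b⟩, hkb⟩ := (MonoidHom.ker_transferSylow_isComplement' T hP).2 g
      refine ⟨b, ((hTR ▸ b.2 : (b : G) ∈ R)).1, ?_⟩
      rw [← hkb]
      simp
  obtain ⟨q, r, a₀, b, hq, hr, -, ha₀, ha₀q, ha₀Z, -, -, -⟩ := h.two_primes hF hx
  haveI := Fact.mk hq
  obtain ⟨a, haz, haZ, haq⟩ := exists_pow_mem_center ha₀q ha₀Z
  have ha : a ∈ C x := mem_of_mem_zpowers haz ha₀
  have haq' : PE q a := pe_of_dvd hq ha₀q (orderOf_dvd_of_mem_zpowers haz)
  set Ks := {K : Subgroup G | ∃ q : ℕ, q.Prime ∧ (∃ a ∈ C x, PE q a ∧ a ∉ Z) ∧ K.Normal ∧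
    (Nat.card K).Coprime q ∧ commutator G ≤ K}
  set N := sInf Ks
  have hNn : N.Normal := by
    refine ⟨fun n hn g => Subgroup.mem_sInf.2 ?_⟩
    rintro K ⟨p, hp, hex, hKn, hKc, hcomm⟩
    exact hKn.conj_mem n (Subgroup.mem_sInf.1 hn K ⟨p, hp, hex, hKn, hKc, hcomm⟩) g
  haveI := hNn
  have hcomm : commutator G ≤ N := le_sInf fun K hK => by
    obtain ⟨p, hp, -, -, -, hc⟩ := hK
    exact hc
  have hmem : ∀ (p : ℕ), p.Prime → ∀ c ∈ C x, PE p c → c ∉ Z → (Nat.card N).Coprime p := by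
    intro p hp c hc hcp hcZ
    obtain ⟨K, hKn, hKc, hKcomm, -⟩ := hK p hp c hc hcp hcZ
    have hle : N ≤ K := sInf_le ⟨p, hp, ⟨c, hc, hcp, hcZ⟩, hKn, hKc, hKcomm⟩
    exact hKc.coprime_dvd_left (Subgroup.card_dvd_of_le hle)
  have hNC : ∀ n ∈ N, n ∈ C x → n ∈ Z := fun n hn hnC => by
    by_contra hnZ
    obtain ⟨p, hp, c, hcz, hcp, hcZ⟩ := exists_prime_part hnZ
    have hcN := mem_of_mem_zpowers hcz hn
    refine hcZ (eq_one_of_pe_coprime hcp ((hmem p hp c (mem_of_mem_zpowers hcz hnC) hcp hcZ).coprime_dvd_left ?_) ▸ one_mem _)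
    rw [← Subgroup.orderOf_mk c hcN]
    exact orderOf_dvd_natCard _
  have hNq := hmem q hq a ha haq' haZ
  set M := Z.subgroupOf N
  have hconj : (⊤ : Subgroup G) ≤ Subgroup.normalizer (N : Set G) := H21.le_normalizer_of_normal N ⊤
  let φ := actMod hconj ⟨a, Subgroup.mem_top a⟩
  have hfix : ∀ k, φ k = k → k = 1 := fun k hk => by
    induction k using QuotientGroup.induction_on with | _ n => ?_
    have h3 : ((H21.conjHom hconj ⟨a, Subgroup.mem_top a⟩ n : N) : N ⧸ M) = n := hk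
    have h4 := Subgroup.mem_subgroupOf.1 (QuotientGroup.eq.1 h3.symm)
    have h5 : Commute a n :=
      commute_of_comm_mem_center hNq haq n.2 (hNn.conj_mem n n.2 a) h4
    exact (QuotientGroup.eq_one_iff _).2
      (hNC n n.2 (h.C_eq_of_mem hF hx ha haZ ▸ mem_C.2 h5.symm))
  have hit : ∀ k, (⇑φ)^[q] k = k := fun k => by
    rw [← H21.aut_pow_apply]
    show ((actMod hconj ⟨a, Subgroup.mem_top a⟩) ^ q) k = k
    rw [← map_pow]
    induction k using QuotientGroup.induction_on with | _ n => ?_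
    refine congrArg QuotientGroup.mk (Subtype.ext ?_)
    show a ^ q * n * (a ^ q)⁻¹ = n
    rw [← Subgroup.mem_center_iff.1 haq (n : G), mul_inv_cancel_right]
  haveI : Group.IsNilpotent (N ⧸ M) := H21.isNilpotent_of_fpf hfix hq hit
  haveI : Group.IsSolvable M := Group.isSolvable_of_comm fun u v => Subtype.ext (Subtype.ext
    (Subgroup.mem_center_iff.1 (Subgroup.mem_subgroupOf.1 v.2) u))
  haveI hNs : Group.IsSolvable N :=
    solvable_of_ker_le_range M.subtype (QuotientGroup.mk' M) (by simp)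
  haveI : Group.IsSolvable (G ⧸ N) := Group.isSolvable_of_comm fun u v => by
    induction u using QuotientGroup.induction_on with | _ u => ?_
    induction v using QuotientGroup.induction_on with | _ v => ?_
    rw [← QuotientGroup.mk_mul, ← QuotientGroup.mk_mul, QuotientGroup.eq]
    have := hcomm (Subgroup.commutator_mem_commutator (Subgroup.mem_top v⁻¹) (Subgroup.mem_top u⁻¹))
    simpa [commutatorElement_def, mul_assoc] using this
  exact h.hns (solvable_of_ker_le_range N.subtype (QuotientGroup.mk' N) (by simp))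

end Three

end Cfsg.Agent.H63.ItoThree
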