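import Cfsg.Agent.H63.ItoThree.Tools
import Cfsg.Agent.S4033
import Cfsg.Agent.S4034

/-!
# Two sizes of classes of `r`-regular elements
-/

set_option autoImplicit false

namespace Cfsg.Agent.H63.ItoThree

open RankThree

universe u

variable {K : Type u} [Group K] [Finite K] {r k : ℕ}

/-- Either the large size is an `r`-power, or at most one further prime matters. -/
theorem regular_cases (hr : r.Prime)
    (hK : ∀ u : K, (orderOf u).Coprime r → (C u).index = 1 ∨ (C u).index = k)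
    {u₀ : K} (hu₀ : (orderOf u₀).Coprime r) (hu₀Z : u₀ ∉ Subgroup.center K) :
    (∃ e, k = r ^ e) ∨ ∃ q' : ℕ, q'.Prime ∧ (∀ p : ℕ, p.Prime → p ∣ k → p = r ∨ p = q') ∧
      ∀ (q : ℕ) (g : K), q.Prime → q ≠ r → q ≠ q' → PE q g → g ∈ Subgroup.center K := by
  have hk : (C u₀).index = k := (hK u₀ hu₀).resolve_left fun e => hu₀Z (index_C_eq_one.1 e)
  have hk1 : k ≠ 1 := fun e => hu₀Z (index_C_eq_one.1 (hk.trans e))
  have hrange : (Set.range fun x : {x : K // (orderOf x).Coprime r} =>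
      (ConjClasses.mk (x : K)).carrier.ncard) = {1, k} := by
    ext n
    simp only [Set.mem_range, Set.mem_insert_iff, Set.mem_singleton_iff, H86.ncard_carrier_eq_index]
    constructor
    · rintro ⟨⟨u, hu⟩, rfl⟩; exact hK u hu
    · rintro (rfl | rfl)
      · exact ⟨⟨1, by simp⟩, index_C_eq_one.2 (one_mem _)⟩
      · exact ⟨⟨u₀, hu₀⟩, hk⟩
  rcases S4033.result (G := K) hr (by rw [hrange, Set.ncard_pair (Ne.symm hk1)]) with
    hA | ⟨q', hq', P, Q, A, -, hA, hcard, hn, hdis, htop⟩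
  · obtain ⟨e, he⟩ := (S4034.result (G := K) hr).2 hA u₀ hu₀
    exact Or.inl ⟨e, by rw [← hk, ← he, H86.ncard_carrier_eq_index]⟩
  · haveI := hn
    haveI := Fact.mk hr
    haveI hAn : A.Normal := ⟨fun a ha g => by
      rw [Subgroup.mem_center_iff.1 (hA ha) g, mul_inv_cancel_right]; exact ha⟩
    set M := (P : Subgroup K) ⊔ (Q : Subgroup K)
    have hAi : A.index = Nat.card P * Nat.card Q := by
      rw [← hcard, ← Subgroup.relIndex_top_right, ← htop, sup_comm, Subgroup.relIndex_sup_left,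
        ← Subgroup.inf_relIndex_right, inf_comm, hdis, Subgroup.relIndex_bot_left]
    obtain ⟨i, hi⟩ := IsPGroup.iff_card.1 P.2
    obtain ⟨j, hj⟩ := IsPGroup.iff_card.1 Q.2
    refine Or.inr ⟨q', hq'.out, fun p hp hpk => ?_, fun q g hq hqr hqq hg => ?_⟩
    · have h1 : k ∣ r ^ i * q' ^ j := by
        rw [← hk, ← hi, ← hj, ← hAi]
        exact Subgroup.index_dvd_of_le (hA.trans (center_le_C u₀))
      rcases hp.dvd_mul.1 (hpk.trans h1) with h | h
      · exact Or.inl ((Nat.prime_dvd_prime_iff_eq hp hr).1 (hp.dvd_of_dvd_pow h))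
      · exact Or.inr ((Nat.prime_dvd_prime_iff_eq hp hq'.out).1 (hp.dvd_of_dvd_pow h))
    · refine hA ((QuotientGroup.eq_one_iff g).1 (orderOf_eq_one_iff.1
        (Nat.eq_one_of_dvd_coprimes ?_ (orderOf_map_dvd (QuotientGroup.mk' A) g)
          (orderOf_dvd_natCard _))))
      obtain ⟨e, he⟩ := hg
      rw [he, ← Subgroup.index_eq_card, hAi, hi, hj]
      exact ((((Nat.coprime_primes hq hr).2 hqr).pow_right i).mul_right
        (((Nat.coprime_primes hq hq'.out).2 hqq).pow_right j)).pow_left e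

/-- The primes dividing the large size. -/
theorem regular_two_primes (hr : r.Prime)
    (hK : ∀ u : K, (orderOf u).Coprime r → (C u).index = 1 ∨ (C u).index = k)
    {u₀ : K} (hu₀ : (orderOf u₀).Coprime r) (hu₀Z : u₀ ∉ Subgroup.center K) :
    ∃ q' : ℕ, ∀ p : ℕ, p.Prime → p ∣ k → p = r ∨ p = q' := by
  rcases regular_cases hr hK hu₀ hu₀Z with ⟨e, he⟩ | ⟨q', -, h, -⟩
  · exact ⟨r, fun p hp hpk => Or.inl ((Nat.prime_dvd_prime_iff_eq hp hr).1
      (hp.dvd_of_dvd_pow (he ▸ hpk)))⟩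
  · exact ⟨q', h⟩

/-- A non-central `q`-element forces an `r`-power. -/
theorem regular_pow (hr : r.Prime)
    (hK : ∀ u : K, (orderOf u).Coprime r → (C u).index = 1 ∨ (C u).index = k) (hk0 : k ≠ 0)
    {q : ℕ} (hq : q.Prime) (hqr : q ≠ r) (hqk : ¬ q ∣ k)
    {g : K} (hg : PE q g) (hgZ : g ∉ Subgroup.center K) : ∃ e, k = r ^ e := by
  rcases regular_cases hr hK (pe_coprime hq hr hqr hg) hgZ with h | ⟨q', -, hp, hcen⟩
  · exact h
  · have hqq : q = q' := by
      by_contra hne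
      exact hgZ (hcen q g hq hqr hne hg)
    exact ⟨_, Nat.eq_prime_pow_of_unique_prime_dvd hk0 fun {p} hpp hpk =>
      (hp p hpp hpk).resolve_right fun e => hqk (hqq.trans e.symm ▸ hpk)⟩

/-- The `q`-subgroups are abelian when `q` does not divide the large size. -/
theorem regular_abelian (hr : r.Prime)
    (hK : ∀ u : K, (orderOf u).Coprime r → (C u).index = 1 ∨ (C u).index = k) (hk0 : k ≠ 0)
    {q : ℕ} [hq : Fact q.Prime] (hqr : q ≠ r) (hqk : ¬ q ∣ k)
    {S : Subgroup K} (hS : IsPGroup q S) : ∀ a ∈ S, ∀ b ∈ S, Commute a b := by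
  intro a ha b hb
  by_cases haZ : a ∈ Subgroup.center K
  · exact (Subgroup.mem_center_iff.1 haZ b).symm
  obtain ⟨e, he⟩ := regular_pow hr hK hk0 hq.out hqr hqk (pe_of_mem hS ha) haZ
  obtain ⟨H, hH, -, m, hm⟩ := (S4034.result (G := K) hr).1 (fun u hu => by
    rw [H86.ncard_carrier_eq_index]
    rcases hK u hu with h | h
    · exact ⟨0, by rw [h, pow_zero]⟩
    · exact ⟨e, h.trans he⟩)
  obtain ⟨c, hc⟩ := hS.nonempty_fixed_point_of_prime_not_dvd_card (K ⧸ H) (by
    rw [← Subgroup.index_eq_card, hm]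
    exact fun hd => hqr ((Nat.prime_dvd_prime_iff_eq hq.out hr).1 (hq.out.dvd_of_dvd_pow hd)))
  obtain ⟨c, rfl⟩ := QuotientGroup.mk_surjective c
  have hmem : ∀ s ∈ S, c⁻¹ * s * c ∈ H := fun s hs => by
    have h1 : ((s * c : K) : K ⧸ H) = (c : K ⧸ H) := hc ⟨s, hs⟩
    have h2 := H.inv_mem (QuotientGroup.eq.1 h1)
    simpa [mul_assoc] using h2
  have h3 : Commute (c⁻¹ * a * c) (c⁻¹ * b * c) :=
    congrArg Subtype.val (mul_comm' (⟨_, hmem a ha⟩ : H) ⟨_, hmem b hb⟩)
  exact (Commute.conj_iff c⁻¹).1 (by simpa using h3)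

end Cfsg.Agent.H63.ItoThree
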