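import Cfsg.Agent.H63.ItoThree.Basic
import Cfsg.Agent.H63.ItoThree.Regular
import Cfsg.Agent.S4035
import Cfsg.Agent.S4134
import Cfsg.Agent.H25.Burnside

/-!
# Three class sizes with an inclusion between centralisers
-/

set_option autoImplicit false

namespace Cfsg.Agent.H63.ItoThree

open RankThree

universe u

variable {G : Type u} [Group G] [Finite G]

/-- A proper inclusion `C x < C y` with `y` an `s`-element. -/
structure Incl (G : Type u) [Group G] (n₁ n₂ s k : ℕ) (x y : G) : Prop where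
  three : Three G n₁ n₂
  hs : s.Prime
  hys : PE s y
  hy : (C y).index = n₂
  hx : (C x).index = n₁
  hle : C x ≤ C y
  hk : n₁ = k * n₂

namespace Incl

variable {n₁ n₂ s k : ℕ} {x y : G} (h : Incl G n₁ n₂ s k x y)
include h

omit [Finite G] in
theorem one_lt_k : 1 < k := by
  have := h.three.h12
  have := h.hk
  have := h.three.h2
  by_contra hle
  push Not at hle
  nlinarith

omit [Finite G] in
theorem hn₁ {a : G} (ha : (C a).index = n₁) : a ∉ Subgroup.center G := h.three.nc_of_index₁ ha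

omit [Finite G] in
theorem hyZ : y ∉ Subgroup.center G := h.three.nc_of_index₂ h.hy

omit [Finite G] in
theorem hxy : x ∈ C y := h.hle (self_mem_C x)

theorem index_sub : (Subgroup.centralizer ({⟨x, h.hxy⟩} : Set (C y))).index = k := by
  rw [centralizer_sub]
  refine Nat.eq_of_mul_eq_mul_right (m := n₂) (by have := h.three.h2; omega) ?_
  rw [← h.hk, ← h.hx, ← h.hy]
  exact Subgroup.relIndex_mul_index h.hle

/-- Relative indices are `1` or `k`. -/
theorem rel {a : G} {p : ℕ} (haZ : a ∉ Subgroup.center G) (hap : PE p a) (w : C a)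
    (hw : (orderOf w).Coprime p) : (C w).index = 1 ∨ (C w).index = k := by
  obtain ⟨w, hwa⟩ := w
  rw [Subgroup.orderOf_mk] at hw
  have hc : (orderOf w).Coprime (orderOf a) := (coprime_pe hap hw).symm
  have e := index_mul_eq hwa hc
  change (C (⟨w, hwa⟩ : C a)).index * (C a).index = (C (w * a)).index at e
  have h1 : (C (w * a)).index ≠ 1 := fun e1 => haZ (index_C_eq_one.1 (Nat.dvd_one.1
    (e1 ▸ Dvd.intro_left _ e)))
  have h12 := h.three.h12
  have h2 := h.three.h2
  have hk := h.hk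
  have hkpos := h.one_lt_k
  rcases h.three.nc_index haZ with ha | ha <;> rcases (h.three.types (w * a)).resolve_left h1 with hi | hi
    <;> rw [ha, hi] at e
  · exact Or.inl ((Nat.mul_eq_right (by omega)).1 e)
  · exact Or.inr (Nat.eq_of_mul_eq_mul_right (by omega) (e.trans hk))
  · rcases Nat.eq_zero_or_pos (C (⟨w, hwa⟩ : C a)).index with h0 | h0
    · rw [h0] at e; omega
    · nlinarith
  · exact Or.inl ((Nat.mul_eq_right (by omega)).1 e)

section Constant

variable {q : ℕ} [hq : Fact q.Prime] (hqn : q ∣ n₂) (hqk : ¬ q ∣ k)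

omit [Finite G] in
include hqk in
theorem index_val {a : G} (ha : a ∉ Subgroup.center G) :
    ((C a).index).factorization q = n₂.factorization q := by
  rcases h.three.nc_index ha with e | e <;> rw [e]
  have hk := h.one_lt_k
  have h2 := h.three.h2
  rw [h.hk, Nat.factorization_mul (by omega) (by omega), Finsupp.add_apply,
    Nat.factorization_eq_zero_of_not_dvd hqk, zero_add]

include hqk in
theorem qe_same {a b : G} (ha : a ∉ Subgroup.center G) (hb : b ∉ Subgroup.center G) :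
    qe q (C a) = qe q (C b) := by
  have key : ∀ a : G, a ∉ Subgroup.center G →
      qe q (C a) + n₂.factorization q = (Nat.card G).factorization q := fun a ha => by
    rw [← h.index_val hqk ha, qe, ← Finsupp.add_apply, ← Nat.factorization_mul
      Nat.card_pos.ne' Subgroup.index_ne_zero_of_finite, Subgroup.card_mul_index]
  exact Nat.add_right_cancel ((key a ha).trans (key b hb).symm)

include hqn hqk in
theorem exists_q {a : G} (ha : a ∉ Subgroup.center G) :
    ∃ u ∈ C a, PE q u ∧ u ∉ Subgroup.center G := by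
  by_contra hno
  push Not at hno
  obtain ⟨u, hu, huZ⟩ : ∃ u : G, PE q u ∧ u ∉ Subgroup.center G := by
    by_contra hno'
    push Not at hno'
    obtain ⟨T⟩ : Nonempty (Sylow q G) := inferInstance
    refine T.not_dvd_index (hqn.trans ?_)
    rw [← h.hy]
    exact Subgroup.index_dvd_of_le fun g hg => center_le_C y (hno' g (pe_of_mem T.2 hg))
  exact (qe_lt (r := q) (K := C a) (fun g hg hgq => hno g hg hgq) (center_le_C u) (self_mem_C u) hu huZ).ne
    (h.qe_same hqk ha huZ)

include hqk in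
/-- The centraliser of a `q`-element splits. -/
theorem split {u : G} (hu : PE q u) (huZ : u ∉ Subgroup.center G) :
    ∃ P H : Subgroup G, IsPGroup q P ∧ (∀ g ∈ C u, PE q g → g ∈ P) ∧ P ≤ C u ∧
      (∀ w, w ∈ H ↔ w ∈ C u ∧ (orderOf w).Coprime q) ∧ ∀ g ∈ P, ∀ w ∈ H, Commute g w := by
  have hreg : ∀ w : C u, (orderOf w).Coprime q → ¬ q ∣ (ConjClasses.mk w).carrier.ncard :=
    fun w hw => by
      rw [H86.ncard_carrier_eq_index]
      rcases h.rel huZ hu w hw with e | e <;> rw [e]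
      · exact hq.out.not_dvd_one
      · exact hqk
  obtain ⟨P⟩ : Nonempty (Sylow q (C u)) := inferInstance
  obtain ⟨hP, H, hH, hHq, hdis, hsup⟩ := S4035.result hreg P
  haveI := hP
  haveI := hH
  haveI : Subsingleton (Sylow q (C u)) := by
    haveI := P.unique_of_normal hP
    infer_instance
  have hHi : H.index = Nat.card (P : Subgroup (C u)) := by
    rw [← Subgroup.relIndex_top_right, ← hsup, Subgroup.relIndex_sup_right, ← Subgroup.inf_relIndex_right,
      inf_comm, hdis, Subgroup.relIndex_bot_left]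
  have hmem : ∀ w : C u, w ∈ H ↔ (orderOf w).Coprime q := fun w => by
    constructor
    · intro hw
      refine (((hq.out.coprime_iff_not_dvd).2 hHq).symm).coprime_dvd_left ?_
      rw [← Subgroup.orderOf_mk w hw]
      exact orderOf_dvd_natCard _
    · intro hw
      refine (QuotientGroup.eq_one_iff w).1 (orderOf_eq_one_iff.1 (Nat.eq_one_of_dvd_coprimes ?_
        (orderOf_map_dvd (QuotientGroup.mk' H) w) (orderOf_dvd_natCard _)))
      obtain ⟨i, hi⟩ := IsPGroup.iff_card.1 P.2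
      rw [← Subgroup.index_eq_card, hHi, hi]
      exact hw.pow_right i
  refine ⟨(P : Subgroup (C u)).map (C u).subtype, H.map (C u).subtype, P.2.map _, fun g hg hgq => ?_,
    Subgroup.map_subtype_le _, fun w => ⟨?_, fun hw => ?_⟩, ?_⟩
  · refine ⟨⟨g, hg⟩, ?_, rfl⟩
    obtain ⟨i, hi⟩ := hgq
    obtain ⟨Q, hQ⟩ := (IsPGroup.of_card (n := i)
      (by rw [Nat.card_zpowers, Subgroup.orderOf_mk, hi]) :
      IsPGroup q (Subgroup.zpowers (⟨g, hg⟩ : C u))).exists_le_sylow
    exact Subsingleton.elim Q P ▸ hQ (Subgroup.mem_zpowers _)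
  · rintro ⟨v, hv, rfl⟩
    exact ⟨v.2, by simpa [Subgroup.orderOf_coe] using (hmem v).1 hv⟩
  · exact ⟨⟨w, hw.1⟩, (hmem _).2 (by rw [Subgroup.orderOf_mk]; exact hw.2), rfl⟩
  · rintro _ ⟨g, hg, rfl⟩ _ ⟨w, hw, rfl⟩
    exact congrArg Subtype.val (Subgroup.commute_of_normal_of_disjoint _ _ hP hH
      (disjoint_iff.2 hdis) g w hg hw)

include hqk in
/-- A non-central `q`-element commutes with a non-central element of another prime. -/
theorem exists_other {u : G} (hu : PE q u) (huZ : u ∉ Subgroup.center G) :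
    ∃ (r : ℕ) (w : G), r.Prime ∧ r ≠ q ∧ PE r w ∧ w ∈ C u ∧ w ∉ Subgroup.center G := by
  by_contra hno
  push Not at hno
  have hcen : ∀ r : ℕ, r.Prime → r ≠ q → ∀ g ∈ C u, PE r g → g ∈ Subgroup.center G :=
    fun r hr hne g hg hgr => hno r g hr hne hgr hg
  have hdvd : ∀ a : G, a ∉ Subgroup.center G → cc u ∣ cc a := fun a ha => by
    refine (Nat.factorization_le_iff_dvd (cc_pos u).ne' (cc_pos a).ne').1 fun p => ?_
    by_cases hp : p.Prime
    · haveI := Fact.mk hp
      by_cases hpq : p = q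
      · exact le_of_eq (by subst hpq; exact h.qe_same hqk huZ ha)
      · obtain ⟨S, hSC, hS, hSc⟩ := exists_qsub p (C u)
        have h1 : Nat.card S ∣ p ^ qe p (C a) := card_dvd_qe hS fun g hg =>
          center_le_C a (hcen p hp hpq g (hSC hg) (pe_of_mem hS hg))
        exact (Nat.pow_dvd_pow_iff_le_right hp.one_lt).1 (hSc ▸ h1)
    · simp [Nat.factorization_eq_zero_of_not_prime _ hp]
  have hu₁ : (C u).index = n₁ := by
    refine (h.three.nc_index huZ).resolve_left fun e => ?_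
    have h1 := index_mul_cc u
    have h2 := index_mul_cc x
    rw [e] at h1
    rw [h.hx] at h2
    have h3 := Nat.le_of_dvd (cc_pos x) (hdvd x (h.hn₁ h.hx))
    have h4 := h.three.h12
    have h5 := cc_pos u
    nlinarith
  obtain ⟨w, hwq, hw⟩ := h.three.regular_index₁ hq.out
  obtain ⟨r, hr, v, hv, hvr, hvZ⟩ := exists_prime_part (h.hn₁ hw)
  haveI := Fact.mk hr
  have hrq : r ≠ q := by
    rintro rfl
    exact hvZ ((eq_one_of_pe_coprime hvr
      (hwq.coprime_dvd_left (orderOf_dvd_of_mem_zpowers hv))) ▸ one_mem _)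
  exact (qe_lt (hcen r hr hrq) (center_le_C w) (mem_of_mem_zpowers hv (self_mem_C w)) hvr hvZ).ne
    (congrArg (Nat.factorization · r) (Three.cc_eq (hu₁.trans hw.symm)))

include hqk in
/-- The `q`-elements of the centraliser of a non-central `q`-element are central in it. -/
theorem central_q {u : G} (hu : PE q u) (huZ : u ∉ Subgroup.center G) :
    ∀ g ∈ C u, PE q g → g ∈ zq q hq.out (C u) := by
  obtain ⟨P, H, hP, hPall, hPC, hH, hcomm⟩ := h.split hqk hu huZ
  obtain ⟨r, w, hr, hrq, hwr, hw, hwZ⟩ := h.exists_other hqk hu huZ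
  have hwH : w ∈ H := (hH w).2 ⟨hw, pe_coprime hr hq.out hrq hwr⟩
  have hPw : P ≤ C w := fun g hg => mem_C.2 (hcomm g hg w hwH)
  have hab : ∀ a ∈ P, ∀ b ∈ P, Commute a b := fun a ha b hb => by
    have := regular_abelian hr (fun v hv => h.rel hwZ hwr v hv)
      (by have := h.one_lt_k; omega) hrq.symm hqk
      (hP.comap_of_injective (C w).subtype Subtype.val_injective)
      ⟨a, hPw ha⟩ ha ⟨b, hPw hb⟩ hb
    exact congrArg Subtype.val this
  intro g hg hgq
  refine ⟨hg, hgq, fun c hc => ?_⟩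
  obtain ⟨c₁, c₂, h1, h2, h12, h1q, h2q⟩ := parts hq.out c
  have hgP := hPall g hg hgq
  rw [← h12]
  exact (hab g hgP c₁ (hPall c₁ (mem_of_mem_zpowers h1 hc) h1q)).mul_right
    (hcomm g hgP c₂ ((hH c₂).2 ⟨mem_of_mem_zpowers h2 hc, h2q⟩))

include hqk in
theorem C_eq {u a : G} (hu : PE q u) (huZ : u ∉ Subgroup.center G) (ha : a ∈ zq q hq.out (C u))
    (haZ : a ∉ Subgroup.center G) : C a = C u := by
  refine le_antisymm (fun g hg => mem_C.2 ?_) fun g hg => mem_C.2 (ha.2.2 g hg).symm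
  have hua : u ∈ C a := mem_C.2 (ha.2.2 u (self_mem_C u)).symm
  exact ((h.central_q hqk ha.2.1 haZ u hua hu).2.2 g hg).symm

include hqk in
theorem card_R {u : G} (hu : PE q u) (huZ : u ∉ Subgroup.center G) :
    Nat.card (zq q hq.out (C u)) = q ^ qe q (C u) :=
  card_eq_qe isPGroup_zq zq_le fun g hg hgq => h.central_q hqk hu huZ g hg hgq

include hqk in
/-- The component of a `q`-element. -/
theorem comp {u : G} (hu : PE q u) (huZ : u ∉ Subgroup.center G) :
    ∃ W : Subgroup G, (∀ w, w ∈ W ↔ w ∈ C u ∧ (orderOf w).Coprime q) ∧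
      Comp q (zq q hq.out (C u)) W := by
  obtain ⟨P, H, -, -, -, hH, -⟩ := h.split hqk hu huZ
  refine ⟨H, hH, ?_⟩
  have huR : u ∈ zq q hq.out (C u) := h.central_q hqk hu huZ u (self_mem_C u) hu
  exact
    { ab := fun a ha b hb => ha.2.2 b hb.1
      pe := fun a ha => ha.2.1
      zmem := fun z hz hzq =>
        ⟨center_le_C u hz, hzq, fun c _ => (Subgroup.mem_center_iff.1 hz c).symm⟩
      nc := ⟨u, huR, huZ⟩
      cl := fun a ha haZ g hg hga =>
        h.central_q hqk hu huZ g (h.C_eq hqk hu huZ ha haZ ▸ hga) hg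
      cop := coprime_card_of_forall fun w hw => ((hH w).1 hw).2
      wnorm := fun g hg w hw => by
        have hw' := (hH w).1 hw
        refine (hH _).2 ⟨?_, by rw [orderOf_conj']; exact hw'.2⟩
        rw [← h.C_eq hqk hu huZ ((Subgroup.mem_normalizer_iff.1 hg u).1 huR)
          (fun e => huZ (conj_mem_center_iff.1 e)), conj_mem_C_iff]
        exact hw'.1
      wnc := by
        obtain ⟨r, w, hr, hrq, hwr, hw, hwZ⟩ := h.exists_other hqk hu huZ
        exact ⟨w, (hH w).2 ⟨hw, pe_coprime hr hq.out hrq hwr⟩, hwZ⟩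
      fix := fun g hg hgq hgR w hw hwg => by
        by_contra hwZ
        have hRw : zq q hq.out (C u) ≤ C w := fun a ha => mem_C.2 (ha.2.2 w ((hH w).1 hw).1)
        have hgw : g ∈ C w := mem_C.2 (mem_C.1 hwg).symm
        obtain ⟨i, hi⟩ := hgq
        have hS : IsPGroup q ↥(Subgroup.zpowers g ⊔ zq q hq.out (C u)) :=
          (IsPGroup.of_card (n := i) (by rw [Nat.card_zpowers, hi])).to_sup_of_normal_right'
            isPGroup_zq (Subgroup.zpowers_le.2 hg)
        have h1 := Nat.le_of_dvd (pow_pos hq.out.pos _)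
          (card_dvd_qe (q := q) hS (sup_le (Subgroup.zpowers_le.2 hgw) hRw))
        rw [h.qe_same hqk hwZ huZ, ← h.card_R hqk hu huZ] at h1
        refine hgR ?_
        rw [Subgroup.eq_of_le_of_card_ge le_sup_right h1]
        exact Subgroup.mem_sup_left (Subgroup.mem_zpowers g) }

include hqn hqk in
/-- The components are lines. -/
theorem line {u : G} (hu : PE q u) (huZ : u ∉ Subgroup.center G) :
    (Subgroup.center G).relIndex (zq q hq.out (C u)) = q := by
  by_contra hl
  obtain ⟨W, -, hR⟩ := h.comp hqk hu huZ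
  obtain ⟨g, hg⟩ := h.three.not_cover huZ
  have hgZ : g ∉ Subgroup.center G := fun e => hg 1 (by simpa using center_le_C u e)
  obtain ⟨v, hv, hvq, hvZ⟩ := h.exists_q hqn hqk hgZ
  obtain ⟨W', -, hR'⟩ := h.comp hqk hvq hvZ
  have hcard : Nat.card (zq q hq.out (C u)) = Nat.card (zq q hq.out (C v)) := by
    rw [h.card_R hqk hu huZ, h.card_R hqk hvq hvZ, h.qe_same hqk huZ hvZ]
  obtain ⟨a, ha⟩ := hR.exists_conj hR' hl (hR.relIndex_eq hR' hcard ▸ hl)
  have hmem : a * u * a⁻¹ ∈ zq q hq.out (C v) :=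
    ha ▸ conj_mem_cjs.2 (h.central_q hqk hu huZ u (self_mem_C u) hu)
  have e := h.C_eq hqk hvq hvZ hmem fun e => huZ (conj_mem_center_iff.1 e)
  refine hg a ?_
  rw [← conj_mem_C_iff (g := a), e]
  simpa [mul_assoc] using mem_C.2 (mem_C.1 hv).symm

include hqn hqk in
/-- A `q`-element moving a component while fixing a line at another prime. -/
theorem mover {r : ℕ} [hr : Fact r.Prime] (hrk : ¬ r ∣ k) (hne : q ≠ r) {u v : G} (hu : PE q u)
    (huZ : u ∉ Subgroup.center G) (hv : PE r v) (hvZ : v ∉ Subgroup.center G)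
    (hvu : Commute u v) : ∃ g : G, PE q g ∧ g ∉ C u ∧
      g ∈ Subgroup.normalizer (zq q hq.out (C u) : Set G) ∧
      g ∈ Subgroup.normalizer (zq r hr.out (C v) : Set G) := by
  set R := zq q hq.out (C u)
  set B := zq r hr.out (C v)
  have huR : u ∈ R := h.central_q hqk hu huZ u (self_mem_C u) hu
  have hBu : B ≤ C u := fun b hb => mem_C.2 (hb.2.2 u (mem_C.2 hvu))
  have hBc : Nat.card B = r ^ qe r (C u) := by
    rw [h.card_R (q := r) hrk hv hvZ, h.qe_same hrk hvZ huZ]
  obtain ⟨T, hT⟩ := (isPGroup_zq (q := q) (K := C u)).exists_le_sylow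
  have hTR : ¬ (T : Subgroup G) ≤ R := fun hle => T.not_dvd_index (hqn.trans (by
    have h1 : n₂ ∣ (C u).index := by
      rcases h.three.nc_index huZ with e | e <;> rw [e]
      exact h.hk ▸ dvd_mul_left _ _
    exact h1.trans (Subgroup.index_dvd_of_le (hle.trans zq_le))))
  haveI := T.2.isNilpotent
  obtain ⟨g₀, hg₀, hg₀R⟩ := SetLike.exists_of_lt
    (Group.normalizerCondition_of_isNilpotent (R.subgroupOf (T : Subgroup G))
      (lt_top_iff_ne_top.2 fun e => hTR (Subgroup.subgroupOf_eq_top.1 e)))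
  have hn := Subgroup.mem_normalizer_iff.1 hg₀
  set g := (g₀ : G) with hgdef
  have hgN : g ∈ Subgroup.normalizer (R : Set G) := by
    refine Subgroup.mem_normalizer_iff.2 fun a => ⟨fun ha => Subgroup.mem_subgroupOf.1
      ((hn ⟨a, hT ha⟩).1 (Subgroup.mem_subgroupOf.2 ha)), fun ha => ?_⟩
    have haT : a ∈ (T : Subgroup G) := by
      have := mul_mem (mul_mem (inv_mem g₀.2) (hT ha)) g₀.2
      simpa [mul_assoc, hgdef] using this
    exact Subgroup.mem_subgroupOf.1 ((hn ⟨a, haT⟩).2 (Subgroup.mem_subgroupOf.2 ha))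
  have hgq : PE q g := pe_of_mem T.2 g₀.2
  have hgC : g ∉ C u := fun e =>
    hg₀R (Subgroup.mem_subgroupOf.2 (h.central_q hqk hu huZ g e hgq))
  -- `N(R)` normalises `C u`
  have hNC : ∀ a ∈ Subgroup.normalizer (R : Set G),
      a ∈ Subgroup.normalizer (C u : Set G) := fun a ha => by
    have e : C (a * u * a⁻¹) = C u := h.C_eq hqk hu huZ ((Subgroup.mem_normalizer_iff.1 ha u).1 huR)
      fun e => huZ (conj_mem_center_iff.1 e)
    refine Subgroup.mem_normalizer_iff.2 fun w => ?_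
    show w ∈ C u ↔ a * w * a⁻¹ ∈ C u
    conv_rhs => rw [← e, conj_mem_C_iff]
  have hB' : cjs g B ≤ C u := fun b hb => by
    have := (Subgroup.mem_normalizer_iff.1 (hNC g hgN) _).1 (hBu (mem_cjs.1 hb))
    simpa [mul_assoc] using this
  have hB'c : Nat.card (cjs g B) = r ^ qe r (C u) := by
    rw [cjs, ← Nat.card_congr (Subgroup.equivMapOfInjective B _ (MulEquiv.injective _)).toEquiv, hBc]
  obtain ⟨c, hc, hcB⟩ := exists_conj_qsub hB' hBu hB'c hBc
  set g₁ := c * g
  have hcR : c ∈ Subgroup.normalizer (R : Set G) := Subgroup.mem_normalizer_iff.2 fun a => by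
    constructor
    · intro ha
      rw [(ha.2.2 c hc).symm.eq, mul_inv_cancel_right]; exact ha
    · intro ha
      have h1 : Commute (c * a * c⁻¹) c := ha.2.2 c hc
      have : a = c * a * c⁻¹ := by
        calc a = c⁻¹ * (c * a * c⁻¹ * c) := by group
          _ = c⁻¹ * (c * (c * a * c⁻¹)) := by rw [h1.eq]
          _ = c * a * c⁻¹ := by group
      exact this ▸ ha
  have hg₁R : g₁ ∈ Subgroup.normalizer (R : Set G) := mul_mem hcR hgN
  have hg₁B : g₁ ∈ Subgroup.normalizer (B : Set G) := Subgroup.mem_normalizer_iff.2 fun b => by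
    show b ∈ B ↔ c * g * b * (c * g)⁻¹ ∈ B
    rw [show c * g * b * (c * g)⁻¹ = c * (g * b * g⁻¹) * c⁻¹ by group, ← hcB, conj_mem_cjs]
  obtain ⟨g₂, g₃, h2, h3, h23, h2q, h3q⟩ := parts hq.out g₁
  refine ⟨g₂, h2q, fun hg₂ => ?_, mem_of_mem_zpowers h2 hg₁R, mem_of_mem_zpowers h2 hg₁B⟩
  obtain ⟨i, hi⟩ := hgq
  have hpow : ∀ m : ℕ, g₁ ^ m * (g ^ m)⁻¹ ∈ C u := by
    intro m
    induction m with
    | zero => simp
    | succ m ih =>
      have e : g₁ ^ (m + 1) * (g ^ (m + 1))⁻¹ = c * (g * (g₁ ^ m * (g ^ m)⁻¹) * g⁻¹) := by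
        rw [pow_succ', pow_succ']
        simp only [g₁]
        group
      rw [e]
      exact mul_mem hc ((Subgroup.mem_normalizer_iff.1 (hNC g hgN) _).1 ih)
  have h4 : g₁ ^ q ^ i ∈ C u := by
    have := hpow (q ^ i)
    rwa [← hi, pow_orderOf_eq_one, inv_one, mul_one, hi] at this
  have h5 : g₃ ^ q ^ i ∈ C u := by
    obtain ⟨j, rfl⟩ := h3
    show (g₁ ^ j) ^ q ^ i ∈ C u
    rw [← zpow_natCast, ← zpow_mul, mul_comm, zpow_mul, zpow_natCast]
    exact zpow_mem h4 j
  have h6 : g₃ ∈ C u := by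
    obtain ⟨m, hm⟩ := exists_pow_eq_self_of_coprime (x := g₃) (n := q ^ i) (h3q.symm.pow_left i)
    rw [← hm]
    exact pow_mem h5 m
  have h7 : g₁ ∈ C u := h23 ▸ mul_mem hg₂ h6
  have := mul_mem (inv_mem hc) h7
  simp only [g₁, inv_mul_cancel_left] at this
  exact hgC this

include hqn hqk in
theorem false_of_two_constants {r : ℕ} [hr : Fact r.Prime] (hrn : r ∣ n₂) (hrk : ¬ r ∣ k)
    (hne : q ≠ r) : False := by
  obtain ⟨u, -, hu, huZ⟩ := h.exists_q hqn hqk h.hyZ
  obtain ⟨v, hvu, hv, hvZ⟩ := h.exists_q hrn hrk huZ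
  have huv : Commute u v := (mem_C.1 hvu).symm
  obtain ⟨W, hW, hA⟩ := h.comp hqk hu huZ
  obtain ⟨W', hW', hB⟩ := h.comp hrk hv hvZ
  obtain ⟨g, hgq, hgu, hgA, hgB⟩ := h.mover hqn hqk hrk hne hu huZ hv hvZ huv
  obtain ⟨k', hkr, hkv, hkB, hkA⟩ := h.mover hrn hrk hqk hne.symm hv hvZ hu huZ huv.symm
  refine two_lines hne hA.pe hB.pe (h.line hqn hqk hu huZ) (h.line hrn hrk hv hvZ)
    (h.central_q hqk hu huZ u (self_mem_C u) hu) huZ
    (h.central_q hrk hv hvZ v (self_mem_C v) hv) hvZ zq_le zq_le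
    (fun g hg hgq hgv => ?_) (fun g hg hgr hgu => ?_) hgA hgB hgq hgu hkA hkB hkr hkv
  · by_contra hgR
    exact hvZ (hA.fix g hg hgq hgR v ((hW v).2 ⟨hvu, pe_coprime hr.out hq.out hne.symm hv⟩)
      (mem_C.2 (mem_C.1 hgv).symm))
  · by_contra hgR
    exact huZ (hB.fix g hg hgr hgR u ((hW' u).2 ⟨mem_C.2 huv, pe_coprime hq.out hr.out hne hu⟩)
      (mem_C.2 (mem_C.1 hgu).symm))

include hqk in
/-- A `q`-element with the centraliser of `y` gives a group with two class sizes. -/
theorem primePow_of_C_eq {v : G} (hv : PE q v) (e : C v = C y) : ∃ p a : ℕ, p.Prime ∧ k = p ^ a := by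
  have hvi : (C v).index = n₂ := by rw [e, h.hy]
  have hvZ : v ∉ Subgroup.center G := h.three.nc_of_index₂ hvi
  have hxv : x ∈ C v := e ▸ h.hxy
  have hsizes : ∀ w : C v, (Subgroup.centralizer ({w} : Set (C v))).index = 1 ∨
      (Subgroup.centralizer ({w} : Set (C v))).index = k := by
    intro w
    obtain ⟨a, b, ha, hb, hab, haq, hbq⟩ := parts hq.out w
    have haC : ∀ g : C v, Commute (a : C v) g := fun g => Subtype.ext
      ((h.central_q hqk hv hvZ a a.2 (by
        simpa [PE, Subgroup.orderOf_coe] using haq)).2.2 g g.2).eq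
    have e : Subgroup.centralizer ({w} : Set (C v)) = C b := by
      ext g
      show g ∈ C w ↔ g ∈ C b
      rw [mem_C, mem_C, ← hab]
      constructor
      · intro hg
        have := ((haC g).symm.inv_right).mul_right hg
        rwa [inv_mul_cancel_left] at this
      · exact fun hg => (haC g).symm.mul_right hg
    rw [e]
    exact h.rel hvZ hv b hbq
  obtain ⟨p, hp, a, ha, -⟩ := S4134.result (G := C v) k h.one_lt_k hsizes ⟨⟨x, hxv⟩, by
    rw [centralizer_sub]
    refine Nat.eq_of_mul_eq_mul_right (m := n₂) (by have := h.three.h2; omega) ?_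
    rw [← h.hk, ← h.hx, ← hvi]
    exact Subgroup.relIndex_mul_index (e ▸ h.hle)⟩
  exact ⟨p, a, hp.out, ha⟩

include hqn hqk in
theorem k_primePow : ∃ p a : ℕ, p.Prime ∧ k = p ^ a := by
  by_cases hsq : q = s
  · exact h.primePow_of_C_eq hqk (hsq ▸ h.hys) rfl
  obtain ⟨v, hvx, hv, hvZ⟩ := h.exists_q hqn hqk (h.hn₁ h.hx)
  have hvy : v ∈ C y := h.hle hvx
  by_cases hcen : (⟨v, hvy⟩ : C y) ∈ Subgroup.center (C y)
  · have hle : C y ≤ C v := fun g hg => mem_C.2
      (congrArg Subtype.val (Subgroup.mem_center_iff.1 hcen ⟨g, hg⟩))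
    refine h.primePow_of_C_eq hqk hv (eq_C_of_le hle ?_).symm
    have hi : (C v).index = n₂ := (h.three.nc_index hvZ).resolve_right fun e => by
      have := Nat.le_of_dvd (by have := h.three.h2; omega) (h.hy ▸ e ▸ Subgroup.index_dvd_of_le hle)
      have := h.three.h12
      omega
    exact (Three.cc_eq (hi.trans h.hy.symm)).le
  · obtain ⟨e, he⟩ := regular_pow h.hs (fun w hw => h.rel h.hyZ h.hys w hw)
      (by have := h.one_lt_k; omega) hq.out hsq hqk
      (g := (⟨v, hvy⟩ : C y)) (by simpa [PE, Subgroup.orderOf_mk] using hv) hcen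
    exact ⟨s, e, h.hs, he⟩

end Constant

/-- At most two primes divide `k`. -/
theorem k_two_primes : ∃ q' : ℕ, ∀ p : ℕ, p.Prime → p ∣ k → p = s ∨ p = q' := by
  by_cases hcen : ∀ w : C y, (orderOf w).Coprime s → w ∈ Subgroup.center (C y)
  · refine ⟨s, fun p hp hpk => Or.inl ?_⟩
    haveI := Fact.mk h.hs
    have hs : IsPGroup s (C y ⧸ Subgroup.center (C y)) := by
      intro w
      induction w using QuotientGroup.induction_on with | _ w => ?_
      obtain ⟨a, b, -, -, hab, ⟨i, hi⟩, hb⟩ := parts h.hs w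
      refine ⟨i, ?_⟩
      rw [← hab, QuotientGroup.mk_mul, (QuotientGroup.eq_one_iff b).2 (hcen b hb), mul_one,
        ← QuotientGroup.mk_pow, ← hi, pow_orderOf_eq_one, QuotientGroup.mk_one]
    obtain ⟨i, hi⟩ := IsPGroup.iff_card.1 hs
    have h1 : k ∣ s ^ i := by
      rw [← h.index_sub, ← hi, ← Subgroup.index_eq_card]
      exact Subgroup.index_dvd_of_le (center_le_C _)
    exact (Nat.prime_dvd_prime_iff_eq hp h.hs).1 (hp.dvd_of_dvd_pow (hpk.trans h1))
  · push Not at hcen
    obtain ⟨w, hw, hwZ⟩ := hcen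
    exact regular_two_primes h.hs (fun v hv => h.rel h.hyZ h.hys v hv) hw hwZ

theorem prime_dvd_index {p : ℕ} (hp : p.Prime)
    (hd : p ∣ Nat.card (G ⧸ Subgroup.center G)) : p ∣ k ∨ (p ∣ n₂ ∧ ¬ p ∣ k) := by
  haveI := Fact.mk hp
  by_cases hpk : p ∣ k
  · exact Or.inl hpk
  refine Or.inr ⟨?_, hpk⟩
  by_contra hpn
  have hall : ∀ g : G, ¬ p ∣ (C g).index := fun g hd' => by
    rcases h.three.types g with e | e | e <;> rw [e] at hd'
    · exact hp.not_dvd_one hd'
    · exact hpn hd'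
    · rcases hp.dvd_mul.1 (h.hk ▸ hd') with h1 | h1
      · exact hpk h1
      · exact hpn h1
  obtain ⟨a, ha⟩ := exists_prime_orderOf_dvd_card' (G := G ⧸ Subgroup.center G) p hd
  induction a using QuotientGroup.induction_on with | _ a => ?_
  obtain ⟨w, -, ⟨i, hi⟩, hwZ⟩ := exists_part_not_center hp (dvd_of_eq ha.symm)
  obtain ⟨T, hT⟩ := (IsPGroup.of_card (n := i) (by rw [Nat.card_zpowers, hi]) :
    IsPGroup p (Subgroup.zpowers w)).exists_le_sylow
  obtain ⟨g, hg⟩ := h.three.not_cover hwZ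
  obtain ⟨c, hc⟩ := exists_conj_le (g := g) T.2 (hall g)
  refine hg c ?_
  rw [← conj_mem_C_iff (g := c)]
  simpa [mul_assoc] using mem_C.2 (mem_C.1 (hc w (hT (Subgroup.mem_zpowers w)))).symm

theorem false_of_incl : False := by
  obtain ⟨p, q, hpq⟩ : ∃ p q : ℕ, ∀ t : ℕ, t.Prime → t ∣ Nat.card (G ⧸ Subgroup.center G) →
      t = p ∨ t = q := by
    by_cases hc : ∃ q : ℕ, q.Prime ∧ q ∣ n₂ ∧ ¬ q ∣ k
    · obtain ⟨q, hq, hqn, hqk⟩ := hc
      haveI := Fact.mk hq
      obtain ⟨p, a, hp, hk⟩ := h.k_primePow hqn hqk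
      refine ⟨p, q, fun t ht htd => ?_⟩
      rcases h.prime_dvd_index ht htd with h1 | ⟨h1, h2⟩
      · exact Or.inl ((Nat.prime_dvd_prime_iff_eq ht hp).1 (ht.dvd_of_dvd_pow (hk ▸ h1)))
      · refine Or.inr ?_
        by_contra hne
        haveI := Fact.mk ht
        exact h.false_of_two_constants hqn hqk h1 h2 (Ne.symm hne)
    · obtain ⟨q', hq'⟩ := h.k_two_primes
      refine ⟨s, q', fun t ht htd => ?_⟩
      rcases h.prime_dvd_index ht htd with h1 | ⟨h1, h2⟩
      · exact hq' t ht h1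
      · exact absurd ⟨t, ht, h1, h2⟩ hc
  have key : ∃ (p' q' a b : ℕ), p'.Prime ∧ q'.Prime ∧
      Nat.card (G ⧸ Subgroup.center G) = p' ^ a * q' ^ b := by
    set n := Nat.card (G ⧸ Subgroup.center G)
    have hn : n ≠ 0 := Nat.card_pos.ne'
    by_cases hp : p.Prime ∧ p ∣ n
    · obtain ⟨a, m, hm, e⟩ := Nat.exists_eq_pow_mul_and_not_dvd hn p hp.1.ne_one
      have hm0 : m ≠ 0 := fun e' => hn (by rw [e, e', mul_zero])
      have hmq : ∀ {d : ℕ}, d.Prime → d ∣ m → d = q := fun {d} hd hdm =>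
        (hpq d hd (e ▸ hdm.mul_left _)).resolve_left fun e' => hm (e' ▸ hdm)
      by_cases hq : q.Prime
      · exact ⟨p, q, a, m.primeFactorsList.length, hp.1, hq,
          by rw [← Nat.eq_prime_pow_of_unique_prime_dvd hm0 hmq, e]⟩
      · refine ⟨p, p, a, 0, hp.1, hp.1, ?_⟩
        rw [e, (Nat.eq_one_iff_not_exists_prime_dvd.2 fun d hd hdm => hq (hmq hd hdm ▸ hd)), pow_zero]
    · have hnq : ∀ {d : ℕ}, d.Prime → d ∣ n → d = q := fun {d} hd hdn =>
        (hpq d hd hdn).resolve_left fun e' => hp ⟨e' ▸ hd, e' ▸ hdn⟩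
      by_cases hq : q.Prime
      · exact ⟨q, q, n.primeFactorsList.length, 0, hq, hq,
          by rw [pow_zero, mul_one]; exact Nat.eq_prime_pow_of_unique_prime_dvd hn hnq⟩
      · refine ⟨2, 2, 0, 0, Nat.prime_two, Nat.prime_two, ?_⟩
        rw [(Nat.eq_one_iff_not_exists_prime_dvd.2 fun d hd hdn => hq (hnq hd hdn ▸ hd) : n = 1)]
        simp
  obtain ⟨p', q', a, b, hp', hq', e⟩ := key
  haveI := H25.isSolvable_of_card_eq_mul_pow hp' hq' e
  haveI : Group.IsSolvable (Subgroup.center G) :=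
    Group.isSolvable_of_comm fun u v => mul_comm' u v
  exact h.three.hns (solvable_of_ker_le_range (Subgroup.center G).subtype
    (QuotientGroup.mk' (Subgroup.center G)) (by simp))

end Incl

end Cfsg.Agent.H63.ItoThree
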