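import Cfsg.Agent.H63.ItoThree.FCase
import Cfsg.Agent.H63.ItoThree.Inclusion

/-!
# Three class sizes: solvability
-/

set_option autoImplicit false

namespace Cfsg.Agent.H63.ItoThree

open RankThree

universe u

/-- A group with exactly three class sizes is solvable. -/
theorem isSolvable_of_three_sizes {G : Type u} [Group G] [Finite G] {n₁ n₂ : ℕ} (h12 : n₂ < n₁)
    (h2 : 1 < n₂) (types : ∀ x : G, (C x).index = 1 ∨ (C x).index = n₂ ∨ (C x).index = n₁)
    (ex₁ : ∃ x : G, (C x).index = n₁) (ex₂ : ∃ x : G, (C x).index = n₂) :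
    Group.IsSolvable G := by
  by_contra hns
  have h : Three G n₁ n₂ := ⟨h12, h2, types, ex₁, ex₂, hns⟩
  by_cases hF : IsF G
  · exact h.false_of_F hF
  simp only [IsF, not_forall] at hF
  obtain ⟨x, y, hx, hy, hle, hne⟩ := hF
  have hd : (C y).index ∣ (C x).index := Subgroup.index_dvd_of_le hle
  have hlt : (C y).index ≠ (C x).index := fun e => hne (eq_C_of_le hle (Three.cc_eq e).le)
  have hle' := Nat.le_of_dvd (Nat.pos_of_ne_zero (C x).index_ne_zero_of_finite) hd
  have hy₂ : (C y).index = n₂ ∧ (C x).index = n₁ := by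
    rcases h.nc_index hx with e | e <;> rcases h.nc_index hy with e' | e' <;> omega
  obtain ⟨k, hk⟩ := hy₂.1 ▸ hy₂.2 ▸ hd
  obtain ⟨s, hs, y', hy', hys, hy'Z⟩ := exists_prime_part hy
  have hyy : C y ≤ C y' := C_le_of_mem_zpowers hy'
  have hy'i : (C y').index = n₂ := by
    refine (h.nc_index hy'Z).resolve_right fun e => ?_
    have := Nat.le_of_dvd (by omega) (hy₂.1 ▸ e ▸ Subgroup.index_dvd_of_le hyy)
    omega
  exact Incl.false_of_incl (s := s) (k := k) (x := x) (y := y')
    ⟨h, hs, hys, hy'i, hy₂.2, hle.trans hyy, by rw [hk, mul_comm]⟩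

end Cfsg.Agent.H63.ItoThree
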