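import Cfsg.Agent.H63.RankThree.Prelim
import Cfsg.Agent.H86.Basic

/-!
# Prime parts of elements and of centralisers

Tools for the theorem of Ito on three class sizes.
-/

set_option autoImplicit false

namespace Cfsg.Agent.H63.ItoThree

open RankThree
open scoped Pointwise

universe u

variable {G : Type u} [Group G]

/-- An element of `q`-power order. -/
def PE (q : ℕ) (x : G) : Prop := ∃ k : ℕ, orderOf x = q ^ k

section Basic

theorem pe_one (q : ℕ) : PE q (1 : G) := ⟨0, by simp⟩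

theorem pe_inv {q : ℕ} {x : G} (h : PE q x) : PE q x⁻¹ := by
  simpa [PE, orderOf_inv] using h

theorem pe_conj {q : ℕ} {x : G} (h : PE q x) (g : G) : PE q (g * x * g⁻¹) := by
  obtain ⟨k, hk⟩ := h
  exact ⟨k, by rw [← MulAut.conj_apply, MulEquiv.orderOf_eq, hk]⟩

theorem orderOf_conj' (g x : G) : orderOf (g * x * g⁻¹) = orderOf x := by
  rw [← MulAut.conj_apply, MulEquiv.orderOf_eq]

theorem pe_of_dvd {q : ℕ} (hq : q.Prime) {x : G} {y : G} (h : PE q x)
    (hd : orderOf y ∣ orderOf x) : PE q y := by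
  obtain ⟨k, hk⟩ := h
  obtain ⟨j, -, hj⟩ := (Nat.dvd_prime_pow hq).1 (hk ▸ hd)
  exact ⟨j, hj⟩

theorem pe_mul {q : ℕ} (hq : q.Prime) {x y : G} (hx : PE q x) (hy : PE q y) (h : Commute x y) :
    PE q (x * y) := by
  obtain ⟨a, ha⟩ := hx
  obtain ⟨b, hb⟩ := hy
  have h1 := h.orderOf_mul_dvd_mul_orderOf
  rw [ha, hb, ← pow_add] at h1
  obtain ⟨j, -, hj⟩ := (Nat.dvd_prime_pow hq).1 h1
  exact ⟨j, hj⟩

theorem pe_coprime {q r : ℕ} (hq : q.Prime) (hr : r.Prime) (hne : q ≠ r) {x : G} (h : PE q x) :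
    (orderOf x).Coprime r := by
  obtain ⟨k, hk⟩ := h
  rw [hk]
  exact ((Nat.coprime_primes hq hr).2 hne).pow_left k

theorem eq_one_of_pe_coprime {q : ℕ} {x : G} (h : PE q x) (hc : (orderOf x).Coprime q) : x = 1 := by
  obtain ⟨k, hk⟩ := h
  rcases k with _ | k
  · exact orderOf_eq_one_iff.1 (by rw [hk, pow_zero])
  · rw [hk, Nat.coprime_comm] at hc
    have h1 : q = 1 := (Nat.coprime_self q).1 (Nat.Coprime.coprime_dvd_right (dvd_pow_self q k.succ_ne_zero) hc)
    exact orderOf_eq_one_iff.1 (by rw [hk, h1, one_pow])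

theorem coprime_pe {q : ℕ} {x y : G} (h : PE q x) (hc : (orderOf y).Coprime q) :
    (orderOf x).Coprime (orderOf y) := by
  obtain ⟨k, hk⟩ := h
  rw [hk]
  exact (hc.symm).pow_left k

theorem pe_of_mem {q : ℕ} [Fact q.Prime] {S : Subgroup G} (hS : IsPGroup q S) {x : G}
    (hx : x ∈ S) : PE q x := H86.exists_orderOf_eq_pow_of_mem hS hx

theorem isPGroup_of_pe {q : ℕ} [Fact q.Prime] {S : Subgroup G} (h : ∀ x ∈ S, PE q x) :
    IsPGroup q S :=
  IsPGroup.iff_orderOf.2 fun x => by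
    obtain ⟨k, hk⟩ := h x x.2
    exact ⟨k, by rw [← Subgroup.orderOf_coe, hk]⟩

theorem C_le_of_mem_zpowers {x y : G} (h : y ∈ Subgroup.zpowers x) : C x ≤ C y := by
  obtain ⟨k, rfl⟩ := h
  exact fun g hg => mem_C.2 ((mem_C.1 hg).zpow_right k)

theorem mem_of_mem_zpowers {x y : G} (h : y ∈ Subgroup.zpowers x) {K : Subgroup G} (hx : x ∈ K) :
    y ∈ K := (Subgroup.zpowers_le.2 hx) h

theorem index_C_eq_one {x : G} : (C x).index = 1 ↔ x ∈ Subgroup.center G := by
  rw [Subgroup.index_eq_one, Subgroup.mem_center_iff]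
  constructor
  · intro h g
    exact (mem_C.1 (h ▸ Subgroup.mem_top g : g ∈ C x)).eq
  · exact fun h => eq_top_iff.2 fun g _ => mem_C.2 (h g)

theorem center_le_C (x : G) : Subgroup.center G ≤ C x := fun _ hz =>
  mem_C.2 (Subgroup.mem_center_iff.1 hz x).symm

theorem C_of_center {z : G} (hz : z ∈ Subgroup.center G) : C z = ⊤ :=
  Subgroup.index_eq_one.1 (index_C_eq_one.2 hz)

theorem conj_mem_center_iff {g x : G} :
    g * x * g⁻¹ ∈ Subgroup.center G ↔ x ∈ Subgroup.center G := by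
  refine ⟨fun h => ?_, fun h => (inferInstance : (Subgroup.center G).Normal).conj_mem x h g⟩
  have := (inferInstance : (Subgroup.center G).Normal).conj_mem _ h g⁻¹
  simpa [mul_assoc] using this

theorem conj_mem_C_iff {g x w : G} : g * w * g⁻¹ ∈ C (g * x * g⁻¹) ↔ w ∈ C x := by
  rw [mem_C, mem_C, Commute.conj_iff]

/-- The centraliser of an element in a subgroup. -/
theorem centralizer_sub {K : Subgroup G} {w : G} (hw : w ∈ K) :
    Subgroup.centralizer ({⟨w, hw⟩} : Set K) = (C w).subgroupOf K := by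
  ext v
  rw [Subgroup.mem_subgroupOf, Subgroup.mem_centralizer_singleton_iff, mem_C]
  exact ⟨fun h => congrArg Subtype.val h, fun h => Subtype.ext h.eq⟩

end Basic

section Fin

variable [Finite G]

theorem parts {q : ℕ} (hq : q.Prime) (x : G) : ∃ y z : G, y ∈ Subgroup.zpowers x ∧
    z ∈ Subgroup.zpowers x ∧ y * z = x ∧ PE q y ∧ (orderOf z).Coprime q :=
  H86.exists_pPart_mul_pPrimePart x (isOfFinOrder_of_finite x) hq

/-- A part of an element which is not central. -/
theorem exists_part_not_center {x : G} {q : ℕ} (hq : q.Prime)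
    (hd : q ∣ orderOf (x : G ⧸ Subgroup.center G)) :
    ∃ y ∈ Subgroup.zpowers x, PE q y ∧ y ∉ Subgroup.center G := by
  obtain ⟨y, z, hy, -, hyz, hyq, hzq⟩ := parts hq x
  refine ⟨y, hy, hyq, fun hyZ => ?_⟩
  have e : (x : G ⧸ Subgroup.center G) = (z : G ⧸ Subgroup.center G) := by
    rw [← hyz, QuotientGroup.mk_mul, (QuotientGroup.eq_one_iff y).2 hyZ, one_mul]
  rw [e] at hd
  have h1 : orderOf (z : G ⧸ Subgroup.center G) ∣ orderOf z :=
    orderOf_map_dvd (QuotientGroup.mk' (Subgroup.center G)) z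
  exact hq.one_lt.ne' ((Nat.coprime_self q).1
    ((hzq.coprime_dvd_left (hd.trans h1))))

theorem exists_prime_part {x : G} (hx : x ∉ Subgroup.center G) :
    ∃ q : ℕ, q.Prime ∧ ∃ y ∈ Subgroup.zpowers x, PE q y ∧ y ∉ Subgroup.center G := by
  obtain ⟨q, hq, hd⟩ := Nat.exists_prime_and_dvd
    (n := orderOf (x : G ⧸ Subgroup.center G))
    (fun e => hx ((QuotientGroup.eq_one_iff x).1 (orderOf_eq_one_iff.1 e)))
  exact ⟨q, hq, exists_part_not_center hq hd⟩

/-- A non-central element of prime order modulo the centre, in a cyclic subgroup. -/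
theorem exists_pow_mem_center {q : ℕ} {a : G} (ha : PE q a) (hZ : a ∉ Subgroup.center G) :
    ∃ b ∈ Subgroup.zpowers a, b ∉ Subgroup.center G ∧ b ^ q ∈ Subgroup.center G := by
  classical
  obtain ⟨n, hn⟩ := ha
  have hex : ∃ k : ℕ, a ^ q ^ k ∈ Subgroup.center G :=
    ⟨n, by rw [← hn, pow_orderOf_eq_one]; exact one_mem _⟩
  have h0 : Nat.find hex ≠ 0 := by
    intro e
    have := Nat.find_spec hex
    rw [e, pow_zero, pow_one] at this
    exact hZ this
  obtain ⟨m, hm⟩ := Nat.exists_eq_succ_of_ne_zero h0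
  refine ⟨a ^ q ^ m, pow_mem (Subgroup.mem_zpowers a) _, Nat.find_min hex (by omega), ?_⟩
  rw [← pow_mul, ← pow_succ]
  have := Nat.find_spec hex
  rwa [hm] at this

/-- Fixed points modulo the centre of a coprime action are fixed points. -/
theorem commute_of_comm_mem_center {W : Subgroup G} {q : ℕ} (hW : (Nat.card W).Coprime q) {g w : G}
    (hg : g ^ q ∈ Subgroup.center G) (hw : w ∈ W) (hgw : g * w * g⁻¹ ∈ W)
    (hz : w⁻¹ * (g * w * g⁻¹) ∈ Subgroup.center G) : Commute g w := by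
  set z := w⁻¹ * (g * w * g⁻¹) with hzdef
  have hzW : z ∈ W := W.mul_mem (W.inv_mem hw) hgw
  have hstep : ∀ k : ℕ, g ^ k * w * (g ^ k)⁻¹ = w * z ^ k := by
    intro k
    induction k with
    | zero => simp
    | succ k ih =>
      calc g ^ (k + 1) * w * (g ^ (k + 1))⁻¹ = g * (g ^ k * w * (g ^ k)⁻¹) * g⁻¹ := by
            rw [pow_succ']; group
        _ = g * w * g⁻¹ * (g * z ^ k * g⁻¹) := by rw [ih]; group
        _ = w * z * z ^ k := by
            rw [show g * z ^ k * g⁻¹ = z ^ k by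
              rw [Subgroup.mem_center_iff.1 (pow_mem hz k) g, mul_inv_cancel_right]]
            rw [hzdef]; group
        _ = w * z ^ (k + 1) := by rw [pow_succ', mul_assoc]
  have hq' : g ^ q * w * (g ^ q)⁻¹ = w := by
    rw [← Subgroup.mem_center_iff.1 hg w, mul_inv_cancel_right]
  have hzq : z ^ q = 1 := by
    have := hstep q
    rw [hq'] at this
    exact mul_left_cancel (this.symm.trans (mul_one w).symm)
  have hz1 : z = 1 := orderOf_eq_one_iff.1 (Nat.eq_one_of_dvd_coprimes hW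
    (by rw [← Subgroup.orderOf_mk z hzW]; exact orderOf_dvd_natCard _)
    (orderOf_dvd_of_pow_eq_one hzq))
  have := hstep 1
  rw [pow_one, hz1, one_pow, mul_one] at this
  exact mul_inv_eq_iff_eq_mul.1 this

/-- The central `q`-elements of a subgroup. -/
def zq (q : ℕ) (hq : q.Prime) (K : Subgroup G) : Subgroup G where
  carrier := {g | g ∈ K ∧ PE q g ∧ ∀ c ∈ K, Commute g c}
  one_mem' := ⟨K.one_mem, pe_one q, fun _ _ => Commute.one_left _⟩
  mul_mem' := fun ha hb => ⟨K.mul_mem ha.1 hb.1, pe_mul hq ha.2.1 hb.2.1 (ha.2.2 _ hb.1),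
    fun c hc => (ha.2.2 c hc).mul_left (hb.2.2 c hc)⟩
  inv_mem' := fun ha => ⟨K.inv_mem ha.1, pe_inv ha.2.1, fun c hc => (ha.2.2 c hc).inv_left⟩

omit [Finite G] in
theorem mem_zq {q : ℕ} {hq : q.Prime} {K : Subgroup G} {g : G} :
    g ∈ zq q hq K ↔ g ∈ K ∧ PE q g ∧ ∀ c ∈ K, Commute g c := Iff.rfl

omit [Finite G] in
theorem zq_le {q : ℕ} {hq : q.Prime} {K : Subgroup G} : zq q hq K ≤ K := fun _ h => h.1

omit [Finite G] in
theorem isPGroup_zq {q : ℕ} [hq : Fact q.Prime] {K : Subgroup G} : IsPGroup q (zq q hq.out K) :=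
  isPGroup_of_pe fun _ h => h.2.1

/-- The exponent of `q` in the order of a subgroup. -/
noncomputable def qe (q : ℕ) (K : Subgroup G) : ℕ := (Nat.card K).factorization q

theorem card_dvd_qe {q : ℕ} [hq : Fact q.Prime] {S K : Subgroup G} (hS : IsPGroup q S) (h : S ≤ K) :
    Nat.card S ∣ q ^ qe q K := by
  obtain ⟨i, hi⟩ := IsPGroup.iff_card.1 hS
  rw [hi]
  refine pow_dvd_pow q ((hq.out.pow_dvd_iff_le_factorization Nat.card_pos.ne').1 ?_)
  exact hi ▸ Subgroup.card_dvd_of_le h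

theorem exists_qsub (q : ℕ) [Fact q.Prime] (K : Subgroup G) :
    ∃ S : Subgroup G, S ≤ K ∧ IsPGroup q S ∧ Nat.card S = q ^ qe q K := by
  obtain ⟨S, hS⟩ := Sylow.exists_subgroup_card_pow_prime q (Nat.ordProj_dvd (Nat.card K) q)
  refine ⟨S.map K.subtype, Subgroup.map_subtype_le S, (IsPGroup.of_card hS).map _, ?_⟩
  rw [Nat.card_congr (Subgroup.equivMapOfInjective _ _ Subtype.val_injective).symm.toEquiv]
  exact hS

/-- A subgroup containing all `q`-elements of `K` has the full `q`-part as order. -/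
theorem card_eq_qe {q : ℕ} [Fact q.Prime] {R K : Subgroup G} (hR : IsPGroup q R) (hle : R ≤ K)
    (hall : ∀ g ∈ K, PE q g → g ∈ R) : Nat.card R = q ^ qe q K := by
  obtain ⟨S, hSK, hS, hSc⟩ := exists_qsub q K
  refine Nat.dvd_antisymm (card_dvd_qe hR hle) (hSc ▸ Subgroup.card_dvd_of_le fun g hg => ?_)
  exact hall g (hSK hg) (pe_of_mem hS hg)

/-- Subgroups of full `q`-part are conjugate. -/
theorem exists_conj_qsub {q : ℕ} [Fact q.Prime] {S T K : Subgroup G} (hS : S ≤ K) (hT : T ≤ K)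
    (hSc : Nat.card S = q ^ qe q K) (hTc : Nat.card T = q ^ qe q K) :
    ∃ c ∈ K, ∀ g, g ∈ S ↔ c * g * c⁻¹ ∈ T := by
  have e : ∀ U : Subgroup G, U ≤ K → Nat.card U = q ^ qe q K →
      Nat.card (U.subgroupOf K) = q ^ (Nat.card K).factorization q := fun U hU hc => by
    rw [Nat.card_congr (Subgroup.subgroupOfEquivOfLe hU).toEquiv, hc]; rfl
  obtain ⟨c, hc⟩ := MulAction.exists_smul_eq K (Sylow.ofCard (S.subgroupOf K) (e S hS hSc))
    (Sylow.ofCard (T.subgroupOf K) (e T hT hTc))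
  refine ⟨c, c.2, fun g => ?_⟩
  have h1 : ∀ g : K, (g : G) ∈ S ↔ ((c * g * c⁻¹ : K) : G) ∈ T := fun g => by
    have h2 : (c • Sylow.ofCard (S.subgroupOf K) (e S hS hSc) : Sylow q K).toSubgroup =
        T.subgroupOf K := by rw [hc]; rfl
    rw [← Subgroup.mem_subgroupOf, ← Subgroup.mem_subgroupOf, ← h2]
    show g ∈ S.subgroupOf K ↔ c * g * c⁻¹ ∈ MulAut.conj c • S.subgroupOf K
    rw [← MulAut.conj_apply, ← MulAut.smul_def, Subgroup.smul_mem_pointwise_smul_iff]
  constructor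
  · exact fun hg => by simpa using (h1 ⟨g, hS hg⟩).1 hg
  · intro hg
    have hgK : g ∈ K := by
      have := K.mul_mem (K.mul_mem (K.inv_mem c.2) (hT hg)) c.2
      simpa [mul_assoc] using this
    exact (h1 ⟨g, hgK⟩).2 (by simpa using hg)

/-- If the `r`-elements of `K` are central, a non-central `r`-element forces a larger `r`-part. -/
theorem qe_lt {r : ℕ} [hr : Fact r.Prime] {K L : Subgroup G}
    (hK : ∀ g ∈ K, PE r g → g ∈ Subgroup.center G) (hL : Subgroup.center G ≤ L) {w : G} (hw : w ∈ L)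
    (hwr : PE r w) (hwZ : w ∉ Subgroup.center G) : qe r K < qe r L := by
  obtain ⟨S, hSK, hS, hSc⟩ := exists_qsub r K
  have hSZ : S ≤ Subgroup.center G := fun g hg => hK g (hSK hg) (pe_of_mem hS hg)
  obtain ⟨i, hi⟩ := hwr
  have hT : IsPGroup r ↥(S ⊔ Subgroup.zpowers w) :=
    hS.to_sup_of_normal_right' (IsPGroup.of_card (n := i) (by rw [Nat.card_zpowers, hi]))
      (fun g hg => Subgroup.mem_normalizer_iff.2 fun u => by
        rw [Subgroup.mem_center_iff.1 (hSZ hg) u |>.symm, mul_inv_cancel_right])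
  have hTL : S ⊔ Subgroup.zpowers w ≤ L := sup_le (hSZ.trans hL) (Subgroup.zpowers_le.2 hw)
  have h1 := Nat.le_of_dvd (pow_pos hr.out.pos _) (card_dvd_qe hT hTL)
  have h2 : Nat.card S < Nat.card ↥(S ⊔ Subgroup.zpowers w) := by
    refine lt_of_le_of_ne (Nat.le_of_dvd Nat.card_pos (Subgroup.card_dvd_of_le le_sup_left)) fun e => hwZ (hSZ ?_)
    exact (Subgroup.eq_of_le_of_card_ge le_sup_left e.ge).symm ▸
      Subgroup.mem_sup_right (Subgroup.mem_zpowers w)
  exact (Nat.pow_lt_pow_iff_right hr.out.one_lt).1 (hSc ▸ h2.trans_le h1)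

/-- The index in the centraliser of `a` of the centraliser of an element of coprime order. -/
theorem index_mul_eq {a w : G} (hw : w ∈ C a) (hc : (orderOf w).Coprime (orderOf a)) :
    (Subgroup.centralizer ({⟨w, hw⟩} : Set (C a))).index * (C a).index = (C (w * a)).index := by
  have hwa : Commute w a := mem_C.1 hw
  have h1 : C (w * a) = C w ⊓ C a := le_antisymm
    (le_inf (C_mul_le hwa hc) (hwa.eq ▸ C_mul_le hwa.symm hc.symm))
    fun g hg => mem_C.2 ((mem_C.1 hg.1).mul_right (mem_C.1 hg.2))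
  rw [centralizer_sub, h1, ← Subgroup.relIndex_mul_index (inf_le_right : C w ⊓ C a ≤ C a),
    Subgroup.inf_relIndex_right]
  rfl

end Fin

end Cfsg.Agent.H63.ItoThree
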